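import Cfsg.Agent.J1Order.Values

/-!
# The shape of the characters meeting the section

The four integral combinations have small norms, which leaves two possible shapes; each gives
signed degrees with congruences modulo 8 and two weighted sums equal to multiples of `1 / |G|`.
-/

set_option autoImplicit false
set_option linter.style.haveILetI false
set_option linter.unusedSectionVars false

namespace CfsgLib.J1Order

open Cfsg CfsgLib.Characters

universe u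

/-- The signed degrees in the first shape. -/
structure ShapeOne (N A B C D H : ℤ) : Prop where
  modA : A % 8 = 5
  modB : B % 8 = 5
  modC : C % 8 = 3
  modD : D % 8 = 3
  modH : H % 8 = 1
  bigA : 7 ≤ |A|
  bigB : 7 ≤ |B|
  bigC : 7 ≤ |C|
  bigD : 7 ≤ |D|
  bigH : 7 ≤ |H|
  sum : A + B + C + D = 0
  eqH : H = A + B - 1
  eq₂ : ((25 : ℚ) / A + 25 / B + 9 / C + 9 / D) * N = 14400 * 4
  eq₁ : (1 + (25 : ℚ) / A + 25 / B + 18 / C + 18 / D + 1 / H) * N = 14400 * 14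

/-- The signed degrees in the second shape. -/
structure ShapeTwo (N A B C D : ℤ) : Prop where
  modA : A % 8 = 6
  modB : B % 8 = 5
  modC : C % 8 = 3
  modD : D % 8 = 2
  bigA : 7 ≤ |A|
  bigB : 7 ≤ |B|
  bigC : 7 ≤ |C|
  bigD : 7 ≤ |D|
  sum : A + B + C + D = 0
  sum' : 1 + 2 * A + B + 2 * C = 0
  eq₂ : ((36 : ℚ) / A + 25 / B + 9 / C + 4 / D) * N = 14400 * 4
  eq₁ : (1 + (72 : ℚ) / A + 25 / B + 18 / C) * N = 14400 * 14

theorem four_support {ι : Type*} [Fintype ι] [DecidableEq ι] (d : ι → ℤ) (hd : ∀ i, 0 < d i)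
    (f : ι → ℤ) (hsq : ∑ i, f i * f i = 4) (hz : ∑ i, d i * f i = 0) :
    (∀ i, f i = 0 ∨ f i = 1 ∨ f i = -1) ∧ (Finset.univ.filter fun i => f i ≠ 0).card = 4 := by
  have hle : ∀ i, f i * f i ≤ 1 := by
    intro i
    by_contra hc
    have h1 : f i * f i + ∑ j ∈ Finset.univ.erase i, f j * f j = 4 :=
      (Finset.add_sum_erase _ (fun j => f j * f j) (Finset.mem_univ i)).trans hsq
    have hnn : 0 ≤ ∑ j ∈ Finset.univ.erase i, f j * f j :=
      Finset.sum_nonneg fun j _ => mul_self_nonneg _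
    have h2 : f i = 2 ∨ f i = -2 := by
      have h3 : f i ≤ 2 := by nlinarith
      have h4 : -2 ≤ f i := by nlinarith
      interval_cases hf : f i <;> norm_num at *
    have h4 : ∑ j ∈ Finset.univ.erase i, f j * f j = 0 := by
      rcases h2 with h | h <;> rw [h] at h1 <;> linarith
    have h5 := (Finset.sum_eq_zero_iff_of_nonneg fun j _ => mul_self_nonneg (f j)).1 h4
    rw [← Finset.add_sum_erase _ (fun j => d j * f j) (Finset.mem_univ i),
      Finset.sum_eq_zero (fun j hj => by rw [mul_self_eq_zero.1 (h5 j hj), mul_zero]), add_zero,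
      mul_eq_zero] at hz
    rcases hz with h | h
    · exact (hd i).ne' h
    · rcases h2 with h' | h' <;> omega
  have hval : ∀ i, f i = 0 ∨ f i = 1 ∨ f i = -1 := fun i => by
    have h := hle i
    have h1 : f i ≤ 1 := by nlinarith
    have h2 : -1 ≤ f i := by nlinarith
    omega
  refine ⟨hval, ?_⟩
  have h : ((Finset.univ.filter fun i => f i ≠ 0).card : ℤ) = 4 := by
    rw [← hsq, Finset.card_filter, Nat.cast_sum]
    refine Finset.sum_congr rfl fun i _ => ?_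
    rcases hval i with h | h | h <;> simp [h]
  exact_mod_cast h

theorem alpha_cases {a b c d : ℤ} (hs : a + b + c + d = 4)
    (hq : a * a + b * b + 2 * (c * c) + 2 * (d * d) ≤ 7) :
    (a = 1 ∧ b = 1 ∧ c = 1 ∧ d = 1) ∨ (a = 2 ∧ b = 1 ∧ c = 1 ∧ d = 0) ∨
      (a = 1 ∧ b = 2 ∧ c = 1 ∧ d = 0) ∨ (a = 2 ∧ b = 1 ∧ c = 0 ∧ d = 1) ∨
      (a = 1 ∧ b = 2 ∧ c = 0 ∧ d = 1) := by
  have := mul_self_nonneg a
  have := mul_self_nonneg b
  have := mul_self_nonneg c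
  have := mul_self_nonneg d
  have a1 : a ≤ 2 := by nlinarith
  have a2 : -2 ≤ a := by nlinarith
  have b1 : b ≤ 2 := by nlinarith
  have b2 : -2 ≤ b := by nlinarith
  have c1 : c ≤ 1 := by nlinarith
  have c2 : -1 ≤ c := by nlinarith
  obtain rfl : d = 4 - a - b - c := by omega
  interval_cases a <;> interval_cases b <;> interval_cases c <;> norm_num at *

theorem sum_four {ι M : Type*} [DecidableEq ι] [AddCommMonoid M] (F : ι → M) {A B C D : ι}
    (hAB : A ≠ B) (hAC : A ≠ C) (hAD : A ≠ D) (hBC : B ≠ C) (hBD : B ≠ D) (hCD : C ≠ D) :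
    ∑ i ∈ ({A, B, C, D} : Finset ι), F i = F A + F B + F C + F D := by
  rw [Finset.sum_insert (by simp [hAB, hAC, hAD]), Finset.sum_insert (by simp [hBC, hBD]),
    Finset.sum_pair hCD, add_assoc, add_assoc]

namespace Setting

variable {G : Type u} [Group G] [Fintype G] [IsSimpleGroup G] (S : Setting G)

/-- The value at the involution. -/
noncomputable def val (χ : IrrCharacter G) : ℤ :=
  S.n 0 χ + 2 * S.n 1 χ + 2 * S.n 2 χ + 4 * S.n 3 χ

/-- The sign-normalised multiplicity. -/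
noncomputable def alp (χ : IrrCharacter G) : ℤ := S.n 1 χ * S.n 0 χ

/-- The signed degree. -/
noncomputable def sdeg (χ : IrrCharacter G) : ℤ := S.n 1 χ * deg χ

/-- The trivial character. -/
noncomputable def triv : IrrCharacter G := ⟨fun _ => 1, isIrr_one⟩

theorem deg_triv : deg (triv : IrrCharacter G) = 1 := by
  have h := deg_eq (triv : IrrCharacter G)
  simp only [triv] at h
  exact_mod_cast h.symm

theorem abs_val_le (χ : IrrCharacter G) : |S.val χ| ≤ (deg χ : ℤ) := by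
  obtain ⟨d, ρ, hρ, hχ⟩ := χ.2
  have hd : (χ : G → ℂ) 1 = (d : ℂ) := by
    rw [← hχ, Representation.char_one, Module.finrank_fin_fun]
  have h := norm_char_le ρ (S.g 0)
  rw [Module.finrank_fin_fun, hχ, show (χ : G → ℂ) (S.g 0) = S.v 0 χ from rfl, S.v_zero,
    Complex.norm_intCast] at h
  have hd' : deg χ = d := by exact_mod_cast (deg_eq χ).symm.trans hd
  rw [hd']
  exact_mod_cast h

include S in
theorem seven_le {χ : IrrCharacter G} (hχ : χ ≠ triv) : 7 ≤ deg χ := by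
  obtain ⟨m, hm⟩ := S.exists_eight χ
  have h1 := abs_le.1 (S.abs_val_le χ)
  have h3 : S.val χ ≠ deg χ := fun h => hχ (Subtype.ext (S.eq_one_of_eq_deg χ (by
    rw [S.v_zero, ← Int.cast_natCast (R := ℂ), ← h]; rfl)))
  rw [val] at h1 h3
  omega

theorem val_n3 {χ : IrrCharacter G} (h : S.n 3 χ ≠ 0) :
    S.n 0 χ = 0 ∧ S.n 1 χ = 0 ∧ S.n 2 χ = 0 := by
  classical
  obtain ⟨g00, g11, g22, g33, g01, g12, g03, g13⟩ := S.gram_values
  have hval : ∀ ψ, S.n 3 ψ = 0 ∨ S.n 3 ψ = 1 ∨ S.n 3 ψ = -1 := by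
    intro ψ
    have : S.n 3 ψ * S.n 3 ψ ≤ 2 := g33 ▸
      Finset.single_le_sum (f := fun i => S.n 3 i * S.n 3 i) (fun i _ => mul_self_nonneg _)
        (Finset.mem_univ ψ)
    have h1 : S.n 3 ψ ≤ 1 := by nlinarith
    have h2 : -1 ≤ S.n 3 ψ := by nlinarith
    omega
  have hcard : (Finset.univ.filter fun ψ => S.n 3 ψ ≠ 0).card = 2 := by
    have h : ((Finset.univ.filter fun ψ => S.n 3 ψ ≠ 0).card : ℤ) = 2 := by
      rw [← g33, Finset.card_filter, Nat.cast_sum]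
      refine Finset.sum_congr rfl fun i _ => ?_
      rcases hval i with h | h | h <;> simp [h]
    exact_mod_cast h
  obtain ⟨U, V, hUV, hsupp⟩ := Finset.card_eq_two.1 hcard
  have hmem : ∀ ψ, S.n 3 ψ ≠ 0 ↔ ψ = U ∨ ψ = V := fun ψ => by
    have := congrArg (ψ ∈ ·) hsupp
    simpa using this
  have hred : ∀ {M : Type} [AddCommMonoid M] (F : IrrCharacter G → M),
      (∀ ψ, S.n 3 ψ = 0 → F ψ = 0) → ∑ ψ, F ψ = F U + F V := by
    intro M _ F hF
    rw [← Finset.sum_pair hUV]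
    refine (Finset.sum_subset (Finset.subset_univ _) fun ψ _ hψ => hF ψ ?_).symm
    by_contra hne
    exact hψ (by simpa using (hmem ψ).1 hne)
  have e0 := S.sum_deg 3
  rw [hred (fun ψ => (deg ψ : ℤ) * S.n 3 ψ) (fun ψ hψ => by simp [hψ])] at e0
  have hU : S.n 3 U = 1 ∨ S.n 3 U = -1 := (hval U).resolve_left ((hmem U).2 (Or.inl rfl))
  have hV : S.n 3 V = -S.n 3 U ∧ deg V = deg U := by
    have p1 := deg_pos U
    have p2 := deg_pos V
    rcases hU with hu | hu <;>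
      rcases (hval V).resolve_left ((hmem V).2 (Or.inr rfl)) with hv | hv <;>
        rw [hu, hv] at e0 <;> omega
  have hπ : ∀ ψ, S.n 3 ψ ≠ 0 → S.n 1 ψ = S.n 2 ψ := by
    intro ψ hψ
    have h1 := S.n_conjChar ψ
    have h2 : S.conjChar ψ = ψ := by
      rcases (hmem ψ).1 hψ with rfl | rfl <;>
        rcases (hmem (S.conjChar _)).1 (by rw [h1.2.2.2]; exact hψ) with h | h
      · exact h
      · exfalso; have := h1.2.2.2; rw [h, hV.1] at this; omega
      · exfalso; have := h1.2.2.2; rw [h, hV.1] at this; omega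
      · exact h
    have h3 := h1.2.1
    rwa [h2] at h3
  rw [hred (fun ψ => S.n 0 ψ * S.n 3 ψ) (fun ψ hψ => by simp [hψ]), hV.1] at g03
  rw [hred (fun ψ => S.n 1 ψ * S.n 3 ψ) (fun ψ hψ => by simp [hψ]), hV.1] at g13
  have hne : S.n 3 U ≠ 0 := by omega
  have q0 : S.n 0 V = S.n 0 U := mul_right_cancel₀ hne (by linarith)
  have q1 : S.n 1 V = S.n 1 U := mul_right_cancel₀ hne (by linarith)
  have q2U := hπ U hne
  have q2V := hπ V (by omega)
  have r4 := S.sum_n_sq_div.2.2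
  rw [hred (fun ψ => (S.n 3 ψ : ℚ) *
      (S.n 0 ψ + 2 * S.n 1 ψ + 2 * S.n 2 ψ + 4 * S.n 3 ψ : ℤ) ^ 2 / deg ψ)
    (fun ψ hψ => by simp [hψ])] at r4
  simp only [hV.1, hV.2, q0, q1, ← q2U, ← q2V] at r4
  push_cast at r4
  have hN : (Nat.card G : ℚ) ≠ 0 := Nat.cast_ne_zero.2 Nat.card_pos.ne'
  have hD : (deg U : ℚ) ≠ 0 := Nat.cast_ne_zero.2 (deg_pos U).ne'
  field_simp at r4
  have hτ : S.n 0 U = -4 * S.n 1 U := by
    have : (S.n 3 U : ℚ) * S.n 3 U * (S.n 0 U + 4 * S.n 1 U) = 0 := by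
      refine (mul_eq_zero.1 ?_).resolve_right hN
      linear_combination r4 / 16
    have h' : S.n 3 U * S.n 3 U * (S.n 0 U + 4 * S.n 1 U) = 0 := by exact_mod_cast this
    rcases hU with h | h <;> rw [h] at h' <;> omega
  have hb : S.n 0 U * S.n 0 U + S.n 0 V * S.n 0 V ≤ 8 := by
    rw [← g00, ← Finset.sum_pair (f := fun ψ => S.n 0 ψ * S.n 0 ψ) hUV]
    exact Finset.sum_le_sum_of_subset_of_nonneg (Finset.subset_univ _)
      fun _ _ _ => mul_self_nonneg _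
  rw [q0, hτ] at hb
  have hz : S.n 1 U = 0 := by
    have h1 : S.n 1 U ≤ 0 := by nlinarith
    have h2 : 0 ≤ S.n 1 U := by nlinarith
    omega
  rcases (hmem χ).1 h with rfl | rfl
  · exact ⟨by omega, hz, by omega⟩
  · exact ⟨by omega, by omega, by omega⟩

/-- The supports of the two conjugate combinations. -/
structure Supp (A B C D : IrrCharacter G) : Prop where
  hAB : A ≠ B
  hAC : A ≠ C
  hAD : A ≠ D
  hBC : B ≠ C
  hBD : B ≠ D
  hCD : C ≠ D
  neA : S.n 1 A ≠ 0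
  neB : S.n 1 B ≠ 0
  neC : S.n 1 C ≠ 0
  neD : S.n 1 D ≠ 0
  eqA : S.n 2 A = S.n 1 A
  eqB : S.n 2 B = S.n 1 B
  zC : S.n 2 C = 0
  zD : S.n 2 D = 0
  out₁ : ∀ χ, S.n 1 χ ≠ 0 → χ = A ∨ χ = B ∨ χ = C ∨ χ = D
  out₂ : ∀ χ, S.n 2 χ ≠ 0 → χ = A ∨ χ = B ∨ χ = S.conjChar C ∨ χ = S.conjChar D

theorem n1_val (χ : IrrCharacter G) : S.n 1 χ = 0 ∨ S.n 1 χ = 1 ∨ S.n 1 χ = -1 := by
  classical
  exact (four_support _ (fun χ => by exact_mod_cast deg_pos χ) (S.n 1) S.gram_values.2.1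
    (S.sum_deg 1)).1 χ

theorem exists_supp : ∃ A B C D, S.Supp A B C D := by
  classical
  obtain ⟨g00, g11, g22, g33, g01, g12, g03, g13⟩ := S.gram_values
  have hd : ∀ χ : IrrCharacter G, (0 : ℤ) < deg χ := fun χ => by exact_mod_cast deg_pos χ
  obtain ⟨hv1, hc1⟩ := four_support _ hd (S.n 1) g11 (S.sum_deg 1)
  obtain ⟨hv2, hc2⟩ := four_support _ hd (S.n 2) g22 (S.sum_deg 2)
  have hv : ∀ χ, S.n 1 χ - S.n 2 χ = 0 ∨ S.n 1 χ - S.n 2 χ = 1 ∨ S.n 1 χ - S.n 2 χ = -1 :=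
    (four_support _ hd (fun χ => S.n 1 χ - S.n 2 χ) (by
      rw [Finset.sum_congr rfl (g := fun χ =>
        S.n 1 χ * S.n 1 χ + S.n 2 χ * S.n 2 χ - 2 * (S.n 1 χ * S.n 2 χ)) (fun χ _ => by ring),
        Finset.sum_sub_distrib, Finset.sum_add_distrib, ← Finset.mul_sum, g11, g22, g12]
      norm_num) (by
      rw [Finset.sum_congr rfl (g := fun χ =>
        (deg χ : ℤ) * S.n 1 χ - (deg χ : ℤ) * S.n 2 χ) (fun χ _ => by ring),
        Finset.sum_sub_distrib, S.sum_deg 1, S.sum_deg 2, sub_zero])).1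
  let P1 := Finset.univ.filter fun χ => S.n 1 χ ≠ 0
  let P2 := Finset.univ.filter fun χ => S.n 2 χ ≠ 0
  let O := P1 ∩ P2
  have hO : O.card = 2 := by
    have h : (O.card : ℤ) = 2 := by
      rw [← g12]
      simp only [O, P1, P2, ← Finset.filter_and, Finset.card_filter, Nat.cast_sum]
      refine Finset.sum_congr rfl fun χ _ => ?_
      rcases hv1 χ with h | h | h <;> rcases hv2 χ with h' | h' | h' <;>
        rcases hv χ with h'' | h'' | h'' <;> rw [h, h'] at h'' <;> simp_all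
    exact_mod_cast h
  obtain ⟨A, B, hAB, hAB'⟩ := Finset.card_eq_two.1 hO
  have hrest : (P1 \ O).card = 2 := by
    rw [Finset.card_sdiff_of_subset Finset.inter_subset_left, hO, hc1]
  obtain ⟨C, D, hCD, hCD'⟩ := Finset.card_eq_two.1 hrest
  have hA : S.n 1 A ≠ 0 ∧ S.n 2 A ≠ 0 := by
    have : A ∈ O := hAB' ▸ Finset.mem_insert_self _ _
    simpa [O, P1, P2] using this
  have hB : S.n 1 B ≠ 0 ∧ S.n 2 B ≠ 0 := by
    have : B ∈ O := hAB' ▸ Finset.mem_insert_of_mem (Finset.mem_singleton_self _)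
    simpa [O, P1, P2] using this
  have hC : S.n 1 C ≠ 0 ∧ S.n 2 C = 0 := by
    have : C ∈ P1 \ O := hCD' ▸ Finset.mem_insert_self _ _
    simp [O, P1, P2] at this
    exact this
  have hD : S.n 1 D ≠ 0 ∧ S.n 2 D = 0 := by
    have : D ∈ P1 \ O := hCD' ▸ Finset.mem_insert_of_mem (Finset.mem_singleton_self _)
    simp [O, P1, P2] at this
    exact this
  have hsame : ∀ χ, S.n 1 χ ≠ 0 → S.n 2 χ ≠ 0 → S.n 2 χ = S.n 1 χ := by
    intro χ h h'
    rcases hv1 χ with a | a | a <;> rcases hv2 χ with b | b | b <;>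
      rcases hv χ with c | c | c <;> omega
  have hO' : ∀ χ, S.n 1 χ ≠ 0 → S.n 2 χ ≠ 0 → χ = A ∨ χ = B := fun χ h h' => by
    have hm : χ ∈ O := by simp [O, P1, P2, h, h']
    rw [hAB'] at hm
    simpa using hm
  have hout1 : ∀ χ, S.n 1 χ ≠ 0 → χ = A ∨ χ = B ∨ χ = C ∨ χ = D := fun χ h => by
    by_cases h' : S.n 2 χ = 0
    · have hm : χ ∈ P1 \ O := by simp [O, P1, P2, h, h']
      rw [hCD'] at hm
      exact Or.inr (Or.inr (by simpa using hm))
    · exact (hO' χ h h').imp id Or.inl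
  refine ⟨A, B, C, D, hAB, fun e => hA.2 (e ▸ hC.2), fun e => hA.2 (e ▸ hD.2),
    fun e => hB.2 (e ▸ hC.2), fun e => hB.2 (e ▸ hD.2), hCD, hA.1, hB.1, hC.1, hD.1,
    hsame A hA.1 hA.2, hsame B hB.1 hB.2, hC.2, hD.2, hout1, fun χ hχ => ?_⟩
  -- the conjugation carries one support onto the other
  obtain ⟨ψ, rfl⟩ := (Finite.injective_iff_surjective.1 S.conjChar_injective) χ
  have hψ : S.n 1 ψ ≠ 0 := by
    rw [(S.n_conjChar ψ).2.2.1] at hχ; exact hχ
  rcases hout1 ψ hψ with rfl | rfl | rfl | rfl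
  · exact (hO' _ (by rw [(S.n_conjChar _).2.1]; exact hA.2) hχ).imp id Or.inl
  · exact (hO' _ (by rw [(S.n_conjChar _).2.1]; exact hB.2) hχ).imp id Or.inl
  · exact Or.inr (Or.inr (Or.inl rfl))
  · exact Or.inr (Or.inr (Or.inr rfl))

variable {S}

theorem Supp.swapAB {A B C D : IrrCharacter G} (h : S.Supp A B C D) : S.Supp B A C D :=
  ⟨h.hAB.symm, h.hBC, h.hBD, h.hAC, h.hAD, h.hCD, h.neB, h.neA, h.neC, h.neD, h.eqB, h.eqA,
    h.zC, h.zD, fun χ hχ => by have := h.out₁ χ hχ; tauto,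
    fun χ hχ => by have := h.out₂ χ hχ; tauto⟩

theorem Supp.swapCD {A B C D : IrrCharacter G} (h : S.Supp A B C D) : S.Supp A B D C :=
  ⟨h.hAB, h.hAD, h.hAC, h.hBD, h.hBC, h.hCD.symm, h.neA, h.neB, h.neD, h.neC, h.eqA, h.eqB,
    h.zD, h.zC, fun χ hχ => by have := h.out₁ χ hχ; tauto,
    fun χ hχ => by have := h.out₂ χ hχ; tauto⟩

theorem Supp.of_mem {A B C D χ : IrrCharacter G} (h : S.Supp A B C D)
    (hm : χ = A ∨ χ = B ∨ χ = C ∨ χ = D) :
    S.n 3 χ = 0 ∧ S.n 1 χ * S.n 1 χ = 1 ∧ χ ≠ triv ∧ 7 ≤ deg χ := by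
  have hne : S.n 1 χ ≠ 0 := by
    rcases hm with rfl | rfl | rfl | rfl
    exacts [h.neA, h.neB, h.neC, h.neD]
  have ht : χ ≠ triv := by
    rintro rfl
    exact hne (S.v_trivial triv rfl).2.1
  refine ⟨?_, ?_, ht, S.seven_le ht⟩
  · by_contra h3
    exact hne (S.val_n3 h3).2.1
  · rcases (S.n1_val χ).resolve_left hne with e | e <;> rw [e] <;> norm_num

theorem Supp.val_pair {A B C D : IrrCharacter G} (h : S.Supp A B C D) :
    S.val A = S.n 0 A + 4 * S.n 1 A ∧ S.val B = S.n 0 B + 4 * S.n 1 B ∧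
      S.val C = S.n 0 C + 2 * S.n 1 C ∧ S.val D = S.n 0 D + 2 * S.n 1 D := by
  simp only [val, h.eqA, h.eqB, h.zC, h.zD, (h.of_mem (Or.inl rfl)).1,
    (h.of_mem (Or.inr (Or.inl rfl))).1, (h.of_mem (Or.inr (Or.inr (Or.inl rfl)))).1,
    (h.of_mem (Or.inr (Or.inr (Or.inr rfl)))).1]
  exact ⟨by ring, by ring, by ring, by ring⟩

/-- Congruence and size of a signed degree. -/
theorem sdeg_spec {A B C D χ : IrrCharacter G} (h : S.Supp A B C D)
    (hm : χ = A ∨ χ = B ∨ χ = C ∨ χ = D) {k : ℤ} (hk : S.val χ = S.n 0 χ + k * S.n 1 χ) :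
    S.sdeg χ % 8 = (S.alp χ + k) % 8 ∧ 7 ≤ |S.sdeg χ| := by
  obtain ⟨-, hsq, -, h7⟩ := h.of_mem hm
  obtain ⟨m, hm'⟩ := S.exists_eight χ
  rw [← val, hk] at hm'
  constructor
  · refine Int.emod_eq_emod_iff_emod_sub_eq_zero.2 (Int.emod_eq_zero_of_dvd
      ⟨S.n 1 χ * m - (S.alp χ + k), ?_⟩)
    rw [sdeg, alp]
    linear_combination S.n 1 χ * hm' - 7 * k * hsq
  · rw [sdeg, abs_mul]
    rcases eq_or_eq_neg_of_abs_eq (show |S.n 1 χ| = 1 by
      rcases S.n1_val χ with e | e | e <;> rw [e] at hsq ⊢ <;> norm_num at *) with e | e <;>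
      rw [e] <;> norm_num <;> omega

theorem Supp.rel {A B C D : IrrCharacter G} (h : S.Supp A B C D) :
    S.alp A + S.alp B + S.alp C + S.alp D = 4 ∧ S.sdeg A + S.sdeg B + S.sdeg C + S.sdeg D = 0 ∧
    (((S.alp A + 4 : ℤ) : ℚ) ^ 2 / S.sdeg A + ((S.alp B + 4 : ℤ) : ℚ) ^ 2 / S.sdeg B +
      ((S.alp C + 2 : ℤ) : ℚ) ^ 2 / S.sdeg C + ((S.alp D + 2 : ℤ) : ℚ) ^ 2 / S.sdeg D) *
        Nat.card G = 14400 * 4 := by
  classical
  obtain ⟨g00, g11, g22, g33, g01, g12, g03, g13⟩ := S.gram_values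
  have hred : ∀ {M : Type} [AddCommMonoid M] (F : IrrCharacter G → M),
      (∀ ψ, S.n 1 ψ = 0 → F ψ = 0) → ∑ ψ, F ψ = F A + F B + F C + F D := by
    intro M _ F hF
    rw [← sum_four F h.hAB h.hAC h.hAD h.hBC h.hBD h.hCD]
    refine (Finset.sum_subset (Finset.subset_univ _) fun ψ _ hψ => hF ψ ?_).symm
    by_contra hne
    exact hψ (by simpa using h.out₁ ψ hne)
  refine ⟨?_, ?_, ?_⟩
  · rw [hred (fun ψ => S.n 0 ψ * S.n 1 ψ) (fun ψ hψ => by simp [hψ])] at g01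
    simp only [alp]
    linear_combination g01
  · have e := S.sum_deg 1
    rw [hred (fun ψ => (deg ψ : ℤ) * S.n 1 ψ) (fun ψ hψ => by simp [hψ])] at e
    simp only [sdeg]
    linear_combination e
  · have e := S.sum_n_sq_div.2.1
    rw [hred (fun ψ => (S.n 1 ψ : ℚ) *
      (S.n 0 ψ + 2 * S.n 1 ψ + 2 * S.n 2 ψ + 4 * S.n 3 ψ : ℤ) ^ 2 / deg ψ)
      (fun ψ hψ => by simp [hψ])] at e
    simp only [show ∀ ψ, S.n 0 ψ + 2 * S.n 1 ψ + 2 * S.n 2 ψ + 4 * S.n 3 ψ = S.val ψ from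
      fun _ => rfl] at e
    obtain ⟨vA, vB, vC, vD⟩ := h.val_pair
    rw [← e]
    have key : ∀ χ (k : ℤ), (χ = A ∨ χ = B ∨ χ = C ∨ χ = D) →
        S.val χ = S.n 0 χ + k * S.n 1 χ →
        ((S.alp χ + k : ℤ) : ℚ) ^ 2 / S.sdeg χ = (S.n 1 χ : ℚ) * (S.val χ : ℚ) ^ 2 / deg χ := by
      intro χ k hm hk
      obtain ⟨-, hsq, -, -⟩ := h.of_mem hm
      rw [hk, alp, sdeg]
      rcases mul_self_eq_one_iff.1 hsq with e | e <;> rw [e] <;> push_cast <;> ring
    rw [key A 4 (Or.inl rfl) vA, key B 4 (Or.inr (Or.inl rfl)) vB,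
      key C 2 (Or.inr (Or.inr (Or.inl rfl))) vC, key D 2 (Or.inr (Or.inr (Or.inr rfl))) vD]

open Classical in
/-- The characters outside the supports and the trivial one. -/
noncomputable def restSet (S : Setting G) (A B C D : IrrCharacter G) : Finset (IrrCharacter G) :=
  Finset.univ \ {triv, A, B, C, D, S.conjChar C, S.conjChar D}

theorem Supp.rel₀ {A B C D : IrrCharacter G} (h : S.Supp A B C D) :
    1 + S.alp A * S.alp A + S.alp B * S.alp B + 2 * (S.alp C * S.alp C) +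
      2 * (S.alp D * S.alp D) + ∑ χ ∈ restSet S A B C D, S.n 0 χ * S.n 0 χ = 8 ∧
    1 + S.alp A * S.sdeg A + S.alp B * S.sdeg B + 2 * (S.alp C * S.sdeg C) +
      2 * (S.alp D * S.sdeg D) + ∑ χ ∈ restSet S A B C D, (deg χ : ℤ) * S.n 0 χ = 0 ∧
    (1 + (S.alp A : ℚ) * ((S.alp A + 4 : ℤ) : ℚ) ^ 2 / S.sdeg A +
      (S.alp B : ℚ) * ((S.alp B + 4 : ℤ) : ℚ) ^ 2 / S.sdeg B +
      2 * ((S.alp C : ℚ) * ((S.alp C + 2 : ℤ) : ℚ) ^ 2 / S.sdeg C) +
      2 * ((S.alp D : ℚ) * ((S.alp D + 2 : ℤ) : ℚ) ^ 2 / S.sdeg D) +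
      ∑ χ ∈ restSet S A B C D, (S.n 0 χ : ℚ) * (S.val χ : ℚ) ^ 2 / deg χ) * Nat.card G =
        14400 * 14 := by
  classical
  have mA := h.of_mem (χ := A) (Or.inl rfl)
  have mB := h.of_mem (χ := B) (Or.inr (Or.inl rfl))
  have mC := h.of_mem (χ := C) (Or.inr (Or.inr (Or.inl rfl)))
  have mD := h.of_mem (χ := D) (Or.inr (Or.inr (Or.inr rfl)))
  have hC' := S.n_conjChar C
  have hD' := S.n_conjChar D
  have z1 : ∀ χ, χ = A ∨ χ = B ∨ χ = C ∨ χ = D →
      χ ≠ S.conjChar C ∧ χ ≠ S.conjChar D := by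
    intro χ hχ
    have hne : S.n 1 χ ≠ 0 := fun e => by have := (h.of_mem hχ).2.1; rw [e] at this; omega
    exact ⟨fun e => hne (by rw [e, hC'.2.1]; exact h.zC),
      fun e => hne (by rw [e, hD'.2.1]; exact h.zD)⟩
  have zT : triv ≠ S.conjChar C ∧ triv ≠ S.conjChar D := by
    obtain ⟨-, -, t2, -⟩ := S.v_trivial triv rfl
    exact ⟨fun e => h.neC (by rw [← hC'.2.2.1, ← e]; exact t2),
      fun e => h.neD (by rw [← hD'.2.2.1, ← e]; exact t2)⟩
  have hred : ∀ {M : Type} [AddCommMonoid M] (F : IrrCharacter G → M),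
      ∑ ψ, F ψ = (∑ ψ ∈ restSet S A B C D, F ψ) + (F triv + (F A + (F B + (F C + (F D +
        (F (S.conjChar C) + F (S.conjChar D))))))) := by
    intro M _ F
    rw [restSet, ← Finset.sum_sdiff (Finset.subset_univ
      ({triv, A, B, C, D, S.conjChar C, S.conjChar D} : Finset (IrrCharacter G)))]
    congr 1
    rw [Finset.sum_insert (by simp [mA.2.2.1.symm, mB.2.2.1.symm, mC.2.2.1.symm, mD.2.2.1.symm,
        zT]),
      Finset.sum_insert (by simp [h.hAB, h.hAC, h.hAD, z1 A (Or.inl rfl)]),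
      Finset.sum_insert (by simp [h.hBC, h.hBD, z1 B (Or.inr (Or.inl rfl))]),
      Finset.sum_insert (by simp [h.hCD, z1 C (Or.inr (Or.inr (Or.inl rfl)))]),
      Finset.sum_insert (by simp [z1 D (Or.inr (Or.inr (Or.inr rfl)))]),
      Finset.sum_pair (fun e => h.hCD (S.conjChar_injective e))]
  obtain ⟨t0, t1, t2, t3⟩ := S.v_trivial triv rfl
  have dT : deg (triv : IrrCharacter G) = 1 := deg_triv
  obtain ⟨vA, vB, vC, vD⟩ := h.val_pair
  have hvC : S.val (S.conjChar C) = S.val C := by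
    simp only [val, hC'.1, hC'.2.1, hC'.2.2.1, hC'.2.2.2]; ring
  have hvD : S.val (S.conjChar D) = S.val D := by
    simp only [val, hD'.1, hD'.2.1, hD'.2.2.1, hD'.2.2.2]; ring
  refine ⟨?_, ?_, ?_⟩
  · have e := S.gram_values.1
    rw [hred, t0, hC'.1, hD'.1] at e
    simp only [alp]
    linear_combination e + S.n 0 A * S.n 0 A * mA.2.1 + S.n 0 B * S.n 0 B * mB.2.1 +
      2 * (S.n 0 C * S.n 0 C) * mC.2.1 + 2 * (S.n 0 D * S.n 0 D) * mD.2.1
  · have e := S.sum_deg 0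
    rw [hred, t0, hC'.1, hD'.1, S.deg_conjChar, S.deg_conjChar, dT] at e
    simp only [alp, sdeg]
    push_cast at e ⊢
    linear_combination e + S.n 0 A * deg A * mA.2.1 + S.n 0 B * deg B * mB.2.1 +
      2 * (S.n 0 C * deg C) * mC.2.1 + 2 * (S.n 0 D * deg D) * mD.2.1
  · have e := S.sum_n_sq_div.1
    simp only [show ∀ ψ, S.n 0 ψ + 2 * S.n 1 ψ + 2 * S.n 2 ψ + 4 * S.n 3 ψ = S.val ψ from
      fun _ => rfl] at e
    rw [hred, t0, hC'.1, hD'.1, S.deg_conjChar, S.deg_conjChar, dT, hvC, hvD,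
      show S.val triv = 1 by simp [val, t0, t1, t2, t3]] at e
    rw [← e]
    have key : ∀ χ (k : ℤ), (χ = A ∨ χ = B ∨ χ = C ∨ χ = D) →
        S.val χ = S.n 0 χ + k * S.n 1 χ →
        (S.alp χ : ℚ) * ((S.alp χ + k : ℤ) : ℚ) ^ 2 / S.sdeg χ =
          (S.n 0 χ : ℚ) * (S.val χ : ℚ) ^ 2 / deg χ := by
      intro χ k hm hk
      obtain ⟨-, hsq, -, -⟩ := h.of_mem hm
      rw [hk, alp, sdeg]
      rcases mul_self_eq_one_iff.1 hsq with e | e <;> rw [e] <;> push_cast <;> ring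
    rw [key A 4 (Or.inl rfl) vA, key B 4 (Or.inr (Or.inl rfl)) vB,
      key C 2 (Or.inr (Or.inr (Or.inl rfl))) vC, key D 2 (Or.inr (Or.inr (Or.inr rfl))) vD]
    push_cast
    ring

theorem shapeTwo {A B C D : IrrCharacter G} (h : S.Supp A B C D) (a : S.alp A = 2)
    (b : S.alp B = 1) (c : S.alp C = 1) (d : S.alp D = 0) :
    ShapeTwo (Nat.card G) (S.sdeg A) (S.sdeg B) (S.sdeg C) (S.sdeg D) := by
  classical
  obtain ⟨vA, vB, vC, vD⟩ := h.val_pair
  have sA := sdeg_spec h (Or.inl rfl) vA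
  have sB := sdeg_spec h (Or.inr (Or.inl rfl)) vB
  have sC := sdeg_spec h (Or.inr (Or.inr (Or.inl rfl))) vC
  have sD := sdeg_spec h (Or.inr (Or.inr (Or.inr rfl))) vD
  obtain ⟨-, r1, r2⟩ := h.rel
  obtain ⟨q0, q1, q2⟩ := h.rel₀
  rw [a, b, c, d] at q0 q1 q2 r2
  rw [a] at sA; rw [b] at sB; rw [c] at sC; rw [d] at sD
  have hz := (Finset.sum_eq_zero_iff_of_nonneg fun χ _ => mul_self_nonneg (S.n 0 χ)).1
    (show ∑ χ ∈ restSet S A B C D, S.n 0 χ * S.n 0 χ = 0 by omega)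
  rw [Finset.sum_eq_zero fun χ hχ => by rw [mul_self_eq_zero.1 (hz χ hχ), mul_zero]] at q1
  rw [Finset.sum_eq_zero fun χ hχ => by
    rw [mul_self_eq_zero.1 (hz χ hχ), Int.cast_zero, zero_mul, zero_div]] at q2
  exact ⟨by omega, by omega, by omega, by omega, sA.2, sB.2, sC.2, sD.2, r1, by linarith,
    by push_cast at r2 ⊢; linear_combination r2, by push_cast at q2 ⊢; linear_combination q2⟩

theorem shapeOne {A B C D : IrrCharacter G} (h : S.Supp A B C D) (a : S.alp A = 1)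
    (b : S.alp B = 1) (c : S.alp C = 1) (d : S.alp D = 1) :
    ∃ H : ℤ, ShapeOne (Nat.card G) (S.sdeg A) (S.sdeg B) (S.sdeg C) (S.sdeg D) H ∧
      ∃ χ, H = S.n 0 χ * deg χ ∧ (S.n 0 χ = 1 ∨ S.n 0 χ = -1) ∧ S.n 1 χ = 0 ∧ S.n 2 χ = 0 ∧
        S.n 3 χ = 0 ∧ S.conjChar χ = χ := by
  classical
  obtain ⟨vA, vB, vC, vD⟩ := h.val_pair
  have sA := sdeg_spec h (Or.inl rfl) vA
  have sB := sdeg_spec h (Or.inr (Or.inl rfl)) vB
  have sC := sdeg_spec h (Or.inr (Or.inr (Or.inl rfl))) vC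
  have sD := sdeg_spec h (Or.inr (Or.inr (Or.inr rfl))) vD
  obtain ⟨-, r1, r2⟩ := h.rel
  obtain ⟨q0, q1, q2⟩ := h.rel₀
  rw [a, b, c, d] at q0 q1 q2 r2
  rw [a] at sA; rw [b] at sB; rw [c] at sC; rw [d] at sD
  have hs : ∑ χ ∈ restSet S A B C D, S.n 0 χ * S.n 0 χ = 1 := by omega
  obtain ⟨H, hH, hne⟩ := Finset.exists_ne_zero_of_sum_ne_zero
    (show ∑ χ ∈ restSet S A B C D, S.n 0 χ * S.n 0 χ ≠ 0 by omega)
  rw [← Finset.add_sum_erase _ _ hH] at hs
  have hnn : 0 ≤ ∑ χ ∈ (restSet S A B C D).erase H, S.n 0 χ * S.n 0 χ :=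
    Finset.sum_nonneg fun _ _ => mul_self_nonneg _
  have hpos : 0 < S.n 0 H * S.n 0 H := lt_of_le_of_ne (mul_self_nonneg _) (Ne.symm hne)
  have hz := (Finset.sum_eq_zero_iff_of_nonneg fun χ _ => mul_self_nonneg (S.n 0 χ)).1
    (show ∑ χ ∈ (restSet S A B C D).erase H, S.n 0 χ * S.n 0 χ = 0 by omega)
  have hsq : S.n 0 H * S.n 0 H = 1 := by omega
  rw [← Finset.add_sum_erase _ _ hH,
    Finset.sum_eq_zero fun χ hχ => by rw [mul_self_eq_zero.1 (hz χ hχ), mul_zero]] at q1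
  rw [← Finset.add_sum_erase _ _ hH, Finset.sum_eq_zero fun χ hχ => by
    rw [mul_self_eq_zero.1 (hz χ hχ), Int.cast_zero, zero_mul, zero_div]] at q2
  have hm : H ≠ triv ∧ H ≠ A ∧ H ≠ B ∧ H ≠ C ∧ H ≠ D ∧ H ≠ S.conjChar C ∧ H ≠ S.conjChar D := by
    simpa [restSet] using hH
  have h1 : S.n 1 H = 0 := by
    by_contra e
    have := h.out₁ H e
    tauto
  have h2 : S.n 2 H = 0 := by
    by_contra e
    have := h.out₂ H e
    tauto
  have h3 : S.n 3 H = 0 := by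
    by_contra e
    rw [(S.val_n3 e).1] at hsq
    omega
  have hfix : S.conjChar H = H := by
    obtain ⟨p0, p1, p2, -⟩ := S.n_conjChar H
    by_contra hne'
    have hmem : S.conjChar H ∈ (restSet S A B C D).erase H := by
      refine Finset.mem_erase.2 ⟨hne', ?_⟩
      rw [h2] at p1; rw [h1] at p2
      have ht : S.conjChar H ≠ triv := fun e => by
        have h7 := S.seven_le hm.1
        rw [← S.deg_conjChar H, e, deg_triv] at h7
        omega
      simp only [restSet, Finset.mem_sdiff, Finset.mem_univ, true_and, Finset.mem_insert,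
        Finset.mem_singleton, not_or]
      exact ⟨ht, fun e => h.neA (e ▸ p1), fun e => h.neB (e ▸ p1), fun e => h.neC (e ▸ p1),
        fun e => h.neD (e ▸ p1), fun e => hm.2.2.2.1 (S.conjChar_injective e),
        fun e => hm.2.2.2.2.1 (S.conjChar_injective e)⟩
    have := hz _ hmem
    rw [p0] at this
    omega
  obtain ⟨m, hm8⟩ := S.exists_eight H
  have h7 := S.seven_le hm.1
  have hval : S.val H = S.n 0 H := by simp [val, h1, h2, h3]
  rw [hval] at q2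
  rw [h1, h2, h3] at hm8
  refine ⟨S.n 0 H * deg H, ⟨by omega, by omega, by omega, by omega, ?_, sA.2, sB.2, sC.2, sD.2,
    ?_, r1, by linarith, by push_cast at r2 ⊢; linear_combination r2, ?_⟩,
    H, rfl, mul_self_eq_one_iff.1 hsq, h1, h2, h3, hfix⟩
  · rcases mul_self_eq_one_iff.1 hsq with e | e <;> rw [e] at hm8 ⊢ <;> omega
  · rcases mul_self_eq_one_iff.1 hsq with e | e <;> rw [e] <;> norm_num <;> omega
  · push_cast at q2 ⊢
    rcases mul_self_eq_one_iff.1 hsq with e | e <;> rw [e] at q2 ⊢ <;> push_cast at q2 ⊢ <;>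
      linear_combination q2

variable (S)

/-- The two possible shapes. -/
theorem shape :
    (∃ A B C D H : ℤ, ShapeOne (Nat.card G) A B C D H ∧
      ∃ χ, H = S.n 0 χ * deg χ ∧ (S.n 0 χ = 1 ∨ S.n 0 χ = -1) ∧ S.n 1 χ = 0 ∧ S.n 2 χ = 0 ∧
        S.n 3 χ = 0 ∧ S.conjChar χ = χ) ∨
    ∃ A B C D : ℤ, ShapeTwo (Nat.card G) A B C D := by
  classical
  obtain ⟨A, B, C, D, h⟩ := S.exists_supp
  have hnn : 0 ≤ ∑ χ ∈ restSet S A B C D, S.n 0 χ * S.n 0 χ :=
    Finset.sum_nonneg fun _ _ => mul_self_nonneg _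
  have h8 := h.rel₀.1
  rcases alpha_cases h.rel.1 (by omega) with ⟨a, b, c, d⟩ | ⟨a, b, c, d⟩ | ⟨a, b, c, d⟩ |
    ⟨a, b, c, d⟩ | ⟨a, b, c, d⟩
  · obtain ⟨H, h1, h2⟩ := shapeOne h a b c d
    exact Or.inl ⟨_, _, _, _, H, h1, h2⟩
  · exact Or.inr ⟨_, _, _, _, shapeTwo h a b c d⟩
  · exact Or.inr ⟨_, _, _, _, shapeTwo h.swapAB b a c d⟩
  · exact Or.inr ⟨_, _, _, _, shapeTwo h.swapCD a b d c⟩
  · exact Or.inr ⟨_, _, _, _, shapeTwo h.swapAB.swapCD b a d c⟩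

end Setting

end CfsgLib.J1Order
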