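import Cfsg.Agent.J1Order.Model
import Mathlib.GroupTheory.Sylow
import Mathlib.GroupTheory.Transfer
import Mathlib.GroupTheory.Subgroup.Simple

/-!
# Groups with an involution centraliser `Z/2 × A₅` containing a Sylow 2-subgroup

The Sylow 2-subgroups are elementary abelian of order 8 and, if the group is simple, all
involutions are conjugate; local counts in the section of the involution.
-/

set_option autoImplicit false
set_option linter.style.haveILetI false

namespace CfsgLib.J1Order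

universe u

variable {G : Type u} [Group G]

/-- An involution with centraliser identified with the model, containing a Sylow 2-subgroup. -/
structure Setting (G : Type u) [Group G] where
  /-- The involution. -/
  t : G
  /-- The identification. -/
  phi : Mdl →* G
  inj : Function.Injective phi
  range : phi.range = Subgroup.centralizer ({t} : Set G)
  phi_T : phi mT = t
  sylow : ∃ P : Sylow 2 G, ∀ x ∈ P, x * t = t * x

namespace Setting

theorem exists_of_iso {t : G} (ht : orderOf t = 2)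
    (hP : ∃ P : Sylow 2 G, t ∈ P ∧ ∀ x ∈ P, x * t = t * x)
    (e : Subgroup.centralizer ({t} : Set G) ≃* Mdl) :
    ∃ S : Setting G, S.t = t := by
  let phi : Mdl →* G := (Subgroup.centralizer ({t} : Set G)).subtype.comp e.symm.toMonoidHom
  have hmem : t ∈ Subgroup.centralizer ({t} : Set G) := Subgroup.mem_centralizer_singleton_iff.2 rfl
  have hm : e ⟨t, hmem⟩ = mT := by
    refine (center_mdl (e ⟨t, hmem⟩) fun n => ?_).resolve_left fun h => ?_
    · obtain ⟨c, rfl⟩ := e.surjective n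
      rw [← map_mul, ← map_mul]
      exact congrArg e (Subtype.ext (Subgroup.mem_centralizer_singleton_iff.1 c.2).symm)
    · have h' : (⟨t, hmem⟩ : Subgroup.centralizer ({t} : Set G)) = 1 :=
        e.injective (h.trans (map_one e).symm)
      have h'' : t = 1 := congrArg Subtype.val h'
      rw [h'', orderOf_one] at ht
      omega
  obtain ⟨P, -, hc⟩ := hP
  refine ⟨⟨t, phi, Subtype.val_injective.comp e.symm.injective, ?_, ?_, P, hc⟩, rfl⟩
  · rw [MonoidHom.range_comp, MonoidHom.range_eq_top.2 e.symm.surjective,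
      ← MonoidHom.range_eq_map, Subgroup.range_subtype]
  · show ((e.symm mT : Subgroup.centralizer ({t} : Set G)) : G) = t
    rw [← hm, e.symm_apply_apply]

variable (S : Setting G)

theorem exists_pre {g : G} (h : g * S.t = S.t * g) : ∃ m, S.phi m = g := by
  rw [← MonoidHom.mem_range, S.range, Subgroup.mem_centralizer_singleton_iff]
  exact h

theorem comm_t (m : Mdl) : S.phi m * S.t = S.t * S.phi m := by
  rw [← S.phi_T, ← map_mul, ← map_mul, mT_mul]

theorem t_mul_t : S.t * S.t = 1 := by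
  rw [← S.phi_T, ← map_mul, mT_facts.2.1, map_one]

theorem t_ne_one : S.t ≠ 1 := by
  rw [← S.phi_T, Ne, map_eq_one_iff _ S.inj]
  exact mT_facts.1

/-- The representatives of the section, in the group. -/
def g (i : Fin 4) : G := S.phi (rep i)

theorem g_zero : S.g 0 = S.t := S.phi_T

theorem g_pow (i : Fin 4) : S.g i ^ 15 = S.t := by
  rw [g, ← map_pow, rep_pow, S.phi_T]

theorem g_ne_one (i : Fin 4) : S.g i ≠ 1 := fun h => S.t_ne_one (by
  rw [← S.g_pow i, h, one_pow])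

/-- Elements fusing two representatives centralise the involution. -/
theorem conj_mem {a : G} {i j : Fin 4} (h : a * S.g i * a⁻¹ = S.g j) : ∃ m, S.phi m = a := by
  refine S.exists_pre ?_
  have h' := congrArg (· ^ 15) h
  simp only [conj_pow, g_pow] at h'
  exact mul_inv_eq_iff_eq_mul.1 h'

theorem g_not_conj {i j : Fin 4} (h : IsConj (S.g i) (S.g j)) : i = j := by
  obtain ⟨a, ha⟩ := isConj_iff.1 h
  obtain ⟨m, rfl⟩ := S.conj_mem ha
  refine rep_not_conj i j m (S.inj ?_)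
  rw [map_mul, map_mul, map_inv]
  exact ha

theorem g_inv (i : Fin 4) : IsConj (S.g i) (S.g i)⁻¹ := by
  obtain ⟨m, hm⟩ := rep_inv i
  exact isConj_iff.2 ⟨S.phi m, by rw [g, ← map_inv, ← map_inv, ← map_mul, ← map_mul, hm]⟩

theorem card_cent (i : Fin 4) :
    Nat.card {x : G // x * S.g i = S.g i * x} = (![120, 6, 10, 10] : Fin 4 → ℕ) i := by
  rw [← rep_cent i, ← Nat.card_eq_fintype_card]
  refine (Nat.card_congr (Equiv.ofBijective
    (fun m : {m : Mdl // m * rep i = rep i * m} =>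
      (⟨S.phi m.1, by rw [g, ← map_mul, m.2, map_mul]⟩ : {x : G // x * S.g i = S.g i * x}))
    ⟨fun a b h => Subtype.ext (S.inj (congrArg Subtype.val h)), ?_⟩)).symm
  rintro ⟨x, hx⟩
  obtain ⟨m, rfl⟩ := S.conj_mem (mul_inv_eq_iff_eq_mul.2 hx)
  exact ⟨⟨m, S.inj (by rw [map_mul, map_mul]; exact hx)⟩, rfl⟩

theorem card_pairs_involutions (i : Fin 4) :
    Nat.card {u : G // u * u = 1 ∧ u ≠ 1 ∧ u ≠ S.g i ∧ u * S.g i * (u * S.g i) = 1} =
      (![30, 6, 10, 10] : Fin 4 → ℕ) i := by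
  have hiff : ∀ m : Mdl, (m * m = 1 ∧ m ≠ 1 ∧ m ≠ rep i ∧ m * rep i * (m * rep i) = 1) ↔
      (S.phi m * S.phi m = 1 ∧ S.phi m ≠ 1 ∧ S.phi m ≠ S.g i ∧
        S.phi m * S.g i * (S.phi m * S.g i) = 1) := fun m => by
    simp only [g, ← map_mul, map_eq_one_iff _ S.inj, S.inj.ne_iff, ne_eq]
  rw [← rep_pairs i, ← Nat.card_eq_fintype_card]
  refine (Nat.card_congr (Equiv.ofBijective
    (fun m : {m : Mdl // m * m = 1 ∧ m ≠ 1 ∧ m ≠ rep i ∧ m * rep i * (m * rep i) = 1} =>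
      (⟨S.phi m.1, (hiff m.1).1 m.2⟩ :
        {u : G // u * u = 1 ∧ u ≠ 1 ∧ u ≠ S.g i ∧ u * S.g i * (u * S.g i) = 1}))
    ⟨fun a b h => Subtype.ext (S.inj (congrArg Subtype.val h)), ?_⟩)).symm
  rintro ⟨u, hu⟩
  have hinv : u * S.g i * u⁻¹ = (S.g i)⁻¹ := by
    rw [inv_eq_of_mul_eq_one_right hu.1, eq_inv_iff_mul_eq_one]
    simpa only [mul_assoc] using hu.2.2.2
  have h' := congrArg (· ^ 15) hinv
  simp only [conj_pow, inv_pow, g_pow, inv_eq_of_mul_eq_one_right S.t_mul_t] at h'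
  obtain ⟨m, rfl⟩ := S.exists_pre (mul_inv_eq_iff_eq_mul.1 h')
  exact ⟨⟨m, (hiff m).2 hu⟩, rfl⟩

section Finite

variable [Finite G]

include S in
theorem card_sylow : ∀ Q : Sylow 2 G, Nat.card (Q : Subgroup G) = 8 := by
  intro Q
  haveI : Fact (Nat.Prime 2) := ⟨Nat.prime_two⟩
  obtain ⟨P, hP⟩ := S.sylow
  rw [Q.card_eq_multiplicity, ← P.card_eq_multiplicity]
  have hC : Nat.card (Subgroup.centralizer ({S.t} : Set G)) = 120 := by
    rw [← S.range, Nat.card_congr (MonoidHom.ofInjective S.inj).symm.toEquiv,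
      Nat.card_eq_fintype_card, card_mdl]
  have hle : (P : Subgroup G) ≤ Subgroup.centralizer ({S.t} : Set G) := fun x hx =>
    Subgroup.mem_centralizer_singleton_iff.2 (hP x hx)
  have hdvd := Subgroup.card_dvd_of_le hle
  rw [hC] at hdvd
  have h8 : (8 : ℕ) ∣ Nat.card (P : Subgroup G) := by
    have hm : Nat.card (mP.map S.phi) = 2 ^ 3 := by
      rw [Subgroup.card_map_of_injective S.inj, Nat.card_eq_fintype_card]
      exact card_mP
    obtain ⟨P', hP'⟩ := (IsPGroup.of_card hm).exists_le_sylow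
    have := Subgroup.card_dvd_of_le hP'
    rw [hm, P'.card_eq_multiplicity, ← P.card_eq_multiplicity] at this
    exact this
  obtain ⟨k, hk⟩ := IsPGroup.iff_card.1 P.isPGroup'
  rw [hk] at hdvd h8 ⊢
  have hk3 : k ≤ 3 := by
    by_contra h
    have : (2 : ℕ) ^ 4 ∣ 120 := (pow_dvd_pow 2 (by omega : 4 ≤ k)).trans hdvd
    omega
  interval_cases k <;> omega

/-- The distinguished Sylow 2-subgroup. -/
noncomputable def P₀ : Sylow 2 G :=
  Sylow.ofCard (mP.map S.phi) (by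
    obtain ⟨P, -⟩ := S.sylow
    rw [← P.card_eq_multiplicity, S.card_sylow P, Subgroup.card_map_of_injective S.inj,
      Nat.card_eq_fintype_card]
    exact card_mP)

theorem coe_P₀ : ((S.P₀ : Sylow 2 G) : Subgroup G) = mP.map S.phi := rfl

theorem mem_P₀ {m : Mdl} : S.phi m ∈ (S.P₀ : Subgroup G) ↔ m ∈ mP := by
  rw [coe_P₀]
  exact Subgroup.mem_map_iff_mem S.inj

theorem sq_P₀ {x : G} (hx : x ∈ (S.P₀ : Subgroup G)) : x * x = 1 := by
  obtain ⟨m, hm, rfl⟩ := hx
  rw [← map_mul, sq_mP m hm, map_one]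

theorem comm_P₀ {x y : G} (hx : x ∈ (S.P₀ : Subgroup G)) (hy : y ∈ (S.P₀ : Subgroup G)) :
    x * y = y * x := by
  have h := inv_eq_of_mul_eq_one_right (S.sq_P₀ (Subgroup.mul_mem _ hx hy))
  rw [← h, mul_inv_rev, inv_eq_of_mul_eq_one_right (S.sq_P₀ hx),
    inv_eq_of_mul_eq_one_right (S.sq_P₀ hy)]

variable [IsSimpleGroup G]

/-- A simple group has no non-trivial element of an abelian Sylow subgroup central in its
normaliser. -/
theorem not_central {z : G} (hz : z ∈ (S.P₀ : Subgroup G)) (hz1 : z ≠ 1)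
    (hc : ∀ n ∈ Subgroup.normalizer ((S.P₀ : Subgroup G) : Set G), n * z * n⁻¹ = z) : False := by
  haveI : Fact (Nat.Prime 2) := ⟨Nat.prime_two⟩
  let H : Subgroup G := (S.P₀ : Subgroup G)
  haveI hab : IsMulCommutative H := ⟨⟨fun a b => Subtype.ext (S.comm_P₀ a.2 b.2)⟩⟩
  letI : CommGroup H := { (inferInstance : Group H) with
    mul_comm := fun a b => Subtype.ext (S.comm_P₀ a.2 b.2) }
  have key : ∀ (k : ℕ) (g₀ : G), g₀⁻¹ * z ^ k * g₀ ∈ H → g₀⁻¹ * z ^ k * g₀ = z ^ k := by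
    intro k g₀ hk
    obtain ⟨n, hn, he⟩ := Sylow.conj_eq_normalizer_conj_of_mem S.P₀ (z ^ k) g₀
      (Subgroup.pow_mem _ hz k) hk
    rw [he]
    have := hc n⁻¹ (Subgroup.inv_mem _ hn)
    rw [inv_inv] at this
    calc n⁻¹ * z ^ k * n = (n⁻¹ * z * n) ^ k := by
          simpa using (conj_pow (a := n⁻¹) (b := z) (i := k)).symm
      _ = z ^ k := by rw [this]
  let f := MonoidHom.transfer (MonoidHom.id H)
  have hfz : f z ≠ 1 := by
    intro h
    rw [show f z = _ from MonoidHom.transfer_eq_pow (MonoidHom.id H) z key] at h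
    have hzi : z ^ H.index = 1 := congrArg Subtype.val h
    have hdvd := Nat.dvd_gcd (orderOf_dvd_of_pow_eq_one hzi)
      (orderOf_dvd_of_pow_eq_one (show z ^ 2 = 1 by rw [pow_two, S.sq_P₀ hz]))
    have hodd : Nat.gcd H.index 2 = 1 :=
      ((Nat.prime_two.coprime_iff_not_dvd).2 (Sylow.not_dvd_index S.P₀)).symm
    rw [hodd, Nat.dvd_one, orderOf_eq_one_iff] at hdvd
    exact hz1 hdvd
  have hinj : Function.Injective f := by
    rw [← MonoidHom.ker_eq_bot_iff]
    refine (IsSimpleGroup.eq_bot_or_eq_top_of_normal f.ker inferInstance).resolve_right fun h => ?_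
    exact hfz (MonoidHom.mem_ker.1 (h ▸ Subgroup.mem_top z))
  refine noncomm_mdl (S.inj (hinj ?_))
  rw [map_mul, map_mul, map_mul, map_mul, mul_comm]

theorem exists_normalizer_conj {m : Mdl} (hm : m ∈ mP) (hm1 : m ≠ 1) :
    ∃ n ∈ Subgroup.normalizer ((S.P₀ : Subgroup G) : Set G), n * S.t * n⁻¹ = S.phi m := by
  classical
  haveI : Fact (Nat.Prime 2) := ⟨Nat.prime_two⟩
  let N := Subgroup.normalizer ((S.P₀ : Subgroup G) : Set G)
  let R : Mdl → Prop := fun m => ∃ n ∈ N, n * S.t * n⁻¹ = S.phi m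
  have hr : S.phi mR ∈ N := by
    rw [Subgroup.mem_normalizer_iff]
    intro x
    constructor
    · rintro ⟨a, ha, rfl⟩
      rw [← map_inv, ← map_mul, ← map_mul]
      exact S.mem_P₀.2 ((mR_norm a).1 ha)
    · rintro ⟨b, hb, hb'⟩
      have hb'' : S.phi (mR⁻¹ * b * mR) = x := by
        rw [map_mul, map_mul, hb', map_inv]
        group
      rw [← hb'']
      refine S.mem_P₀.2 ((mR_norm _).2 ?_)
      rwa [show mR * (mR⁻¹ * b * mR) * mR⁻¹ = b by group]
  have hRk : ∀ (k : ℕ) (a : Mdl), R a → R (mR ^ k * a * (mR ^ k)⁻¹) := by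
    rintro k a ⟨n, hn, he⟩
    refine ⟨S.phi mR ^ k * n, Subgroup.mul_mem _ (Subgroup.pow_mem _ hr k) hn, ?_⟩
    rw [map_mul, map_mul, map_inv, map_pow, ← he]
    group
  have hRk' : ∀ (k : ℕ) (a : Mdl), R (mR ^ k * a * (mR ^ k)⁻¹) → R a := by
    rintro k a ⟨n, hn, he⟩
    refine ⟨(S.phi mR ^ k)⁻¹ * n, Subgroup.mul_mem _ (Subgroup.inv_mem _
      (Subgroup.pow_mem _ hr k)) hn, ?_⟩
    rw [map_mul, map_mul, map_inv, map_pow] at he
    rw [show (S.phi mR ^ k)⁻¹ * n * S.t * ((S.phi mR ^ k)⁻¹ * n)⁻¹ =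
      (S.phi mR ^ k)⁻¹ * (n * S.t * n⁻¹) * S.phi mR ^ k by group, he]
    group
  have hT : R mT := ⟨1, Subgroup.one_mem _, by simp [S.phi_T]⟩
  have htP : S.t ∈ (S.P₀ : Subgroup G) := S.phi_T ▸ S.mem_P₀.2 mT_facts.2.2.1
  have himg : ∀ n ∈ N, ∃ a ∈ mP, a ≠ 1 ∧ S.phi a = n * S.t * n⁻¹ := by
    intro n hn
    obtain ⟨a, ha, he⟩ := (Subgroup.mem_normalizer_iff.1 hn S.t).1 htP
    refine ⟨a, ha, fun h => S.t_ne_one ?_, he⟩
    rw [h, map_one] at he
    simpa using he.symm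
  have horb : ∀ a ∈ mP, a ≠ 1 → a = mT ∨ (R a ↔ R mV) ∨ (R a ↔ R (mT * mV)) := by
    intro a ha ha1
    rcases mP_orbits a ha ha1 with h | ⟨k, h⟩ | ⟨k, h⟩
    · exact Or.inl h
    · exact Or.inr (Or.inl (h ▸ ⟨hRk' _ _, hRk _ _⟩))
    · exact Or.inr (Or.inr (h ▸ ⟨hRk' _ _, hRk _ _⟩))
  -- the orbit has odd size
  have hodd : Odd (Fintype.card {a : Mdl // a ∈ mP ∧ a ≠ 1 ∧ R a}) := by
    let C := Subgroup.centralizer ({S.t} : Set G)
    have hPC : (S.P₀ : Subgroup G) ≤ C := fun x hx =>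
      Subgroup.mem_centralizer_singleton_iff.2 (S.comm_P₀ hx htP)
    have h1 : (S.P₀ : Subgroup G).relIndex N =
        (S.P₀ : Subgroup G).relIndex (C ⊓ N) * (C ⊓ N).relIndex N :=
      (Subgroup.relIndex_mul_relIndex _ _ _ (le_inf hPC Subgroup.le_normalizer) inf_le_right).symm
    have hidx : ¬ 2 ∣ (C ⊓ N).relIndex N := fun h => Sylow.not_dvd_index S.P₀
      ((h.trans (Dvd.intro_left _ h1.symm)).trans
        (Subgroup.relIndex_dvd_index_of_le Subgroup.le_normalizer))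
    rw [Subgroup.inf_relIndex_right] at hidx
    have e : {a : Mdl // a ∈ mP ∧ a ≠ 1 ∧ R a} ≃ N ⧸ C.subgroupOf N := by
      refine Equiv.ofBijective (fun a => QuotientGroup.mk
        (⟨Classical.choose a.2.2.2, (Classical.choose_spec a.2.2.2).1⟩ : N)) ⟨?_, ?_⟩
      · intro a b hab
        have h := QuotientGroup.eq.1 hab
        rw [Subgroup.mem_subgroupOf, Subgroup.coe_mul, Subgroup.coe_inv,
          Subgroup.mem_centralizer_singleton_iff] at h
        simp only at h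
        have ha := (Classical.choose_spec a.2.2.2).2
        have hb := (Classical.choose_spec b.2.2.2).2
        refine Subtype.ext (S.inj ?_)
        rw [← ha, ← hb]
        generalize Classical.choose a.2.2.2 = x at h ⊢
        generalize Classical.choose b.2.2.2 = y at h ⊢
        calc x * S.t * x⁻¹ = x * (S.t * (x⁻¹ * y)) * y⁻¹ := by group
          _ = x * ((x⁻¹ * y) * S.t) * y⁻¹ := by rw [h]
          _ = y * S.t * y⁻¹ := by group
      · intro q
        obtain ⟨⟨n, hn⟩, rfl⟩ := QuotientGroup.mk_surjective q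
        obtain ⟨a, ha, ha1, he⟩ := himg n hn
        refine ⟨⟨a, ha, ha1, n, hn, he.symm⟩, QuotientGroup.eq.2 ?_⟩
        have hx := (Classical.choose_spec
          (⟨n, hn, he.symm⟩ : ∃ n ∈ N, n * S.t * n⁻¹ = S.phi a)).2
        rw [Subgroup.mem_subgroupOf, Subgroup.coe_mul, Subgroup.coe_inv,
          Subgroup.mem_centralizer_singleton_iff]
        simp only
        generalize Classical.choose
          (⟨n, hn, he.symm⟩ : ∃ n ∈ N, n * S.t * n⁻¹ = S.phi a) = x at hx ⊢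
        calc x⁻¹ * n * S.t = x⁻¹ * (n * S.t * n⁻¹) * n := by group
          _ = x⁻¹ * (x * S.t * x⁻¹) * n := by rw [← he, hx]
          _ = S.t * (x⁻¹ * n) := by group
    rw [← Nat.card_eq_fintype_card, Nat.card_congr e]
    exact Nat.not_even_iff_odd.1 fun h => hidx (even_iff_two_dvd.1 h)
  have hcases : (R mV ∧ R (mT * mV)) ∨ (R mV ∧ ¬ R (mT * mV)) ∨ (¬ R mV ∧ R (mT * mV)) ∨
      (¬ R mV ∧ ¬ R (mT * mV)) :=
    (Classical.em (R mV)).elim
      (fun h1 => (Classical.em (R (mT * mV))).elim (fun h2 => Or.inl ⟨h1, h2⟩)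
        fun h2 => Or.inr (Or.inl ⟨h1, h2⟩))
      fun h1 => (Classical.em (R (mT * mV))).elim (fun h2 => Or.inr (Or.inr (Or.inl ⟨h1, h2⟩)))
        fun h2 => Or.inr (Or.inr (Or.inr ⟨h1, h2⟩))
  rcases hcases with ⟨h1, h2⟩ | ⟨h1, h2⟩ | ⟨h1, h2⟩ | ⟨h1, h2⟩
  · rcases horb m hm hm1 with h | h | h
    · exact h ▸ hT
    · exact h.2 h1
    · exact h.2 h2
  · exfalso
    have heq : ∀ a : Mdl, (a ∈ mP ∧ a ≠ 1 ∧ R a) ↔ (a = mT ∨ a ∈ mP ∧ a ≠ 1 ∧
        ∃ k : Fin 3, a = mR ^ (k : ℕ) * mV * (mR ^ (k : ℕ))⁻¹) := by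
      intro a
      constructor
      · rintro ⟨ha, ha1, hRa⟩
        rcases mP_orbits a ha ha1 with h | h | ⟨k, h⟩
        · exact Or.inl h
        · exact Or.inr ⟨ha, ha1, h⟩
        · exact absurd (hRk' k _ (h ▸ hRa)) h2
      · rintro (rfl | ⟨ha, ha1, k, h⟩)
        · exact ⟨mT_facts.2.2.1, mT_facts.1, hT⟩
        · exact ⟨ha, ha1, h ▸ hRk k _ h1⟩
    rw [Fintype.card_congr (Equiv.subtypeEquivRight heq)] at hodd
    rw [(by decide +kernel : Fintype.card {a : Mdl // a = mT ∨ a ∈ mP ∧ a ≠ 1 ∧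
        ∃ k : Fin 3, a = mR ^ (k : ℕ) * mV * (mR ^ (k : ℕ))⁻¹} = 4)] at hodd
    exact absurd hodd (by decide)
  · exfalso
    have heq : ∀ a : Mdl, (a ∈ mP ∧ a ≠ 1 ∧ R a) ↔ (a = mT ∨ a ∈ mP ∧ a ≠ 1 ∧
        ∃ k : Fin 3, a = mR ^ (k : ℕ) * (mT * mV) * (mR ^ (k : ℕ))⁻¹) := by
      intro a
      constructor
      · rintro ⟨ha, ha1, hRa⟩
        rcases mP_orbits a ha ha1 with h | ⟨k, h⟩ | h
        · exact Or.inl h
        · exact absurd (hRk' k _ (h ▸ hRa)) h1
        · exact Or.inr ⟨ha, ha1, h⟩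
      · rintro (rfl | ⟨ha, ha1, k, h⟩)
        · exact ⟨mT_facts.2.2.1, mT_facts.1, hT⟩
        · exact ⟨ha, ha1, h ▸ hRk k _ h2⟩
    rw [Fintype.card_congr (Equiv.subtypeEquivRight heq)] at hodd
    rw [(by decide +kernel : Fintype.card {a : Mdl // a = mT ∨ a ∈ mP ∧ a ≠ 1 ∧
        ∃ k : Fin 3, a = mR ^ (k : ℕ) * (mT * mV) * (mR ^ (k : ℕ))⁻¹} = 4)] at hodd
    exact absurd hodd (by decide)
  · exfalso
    refine S.not_central htP S.t_ne_one fun n hn => ?_
    obtain ⟨a, ha, ha1, he⟩ := himg n hn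
    rcases horb a ha ha1 with h | h | h
    · rw [← he, h, S.phi_T]
    · exact absurd (h.1 ⟨n, hn, he.symm⟩) h1
    · exact absurd (h.1 ⟨n, hn, he.symm⟩) h2

/-- All involutions are conjugate. -/
theorem isConj_t {u : G} (hu : u * u = 1) (hu1 : u ≠ 1) : IsConj S.t u := by
  haveI : Fact (Nat.Prime 2) := ⟨Nat.prime_two⟩
  have hcard : Nat.card (Subgroup.zpowers u) = 2 ^ 1 := by
    rw [Nat.card_zpowers, pow_one]
    exact orderOf_eq_prime (by rw [pow_two, hu]) hu1
  obtain ⟨Q, hQ⟩ := (IsPGroup.of_card hcard).exists_le_sylow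
  obtain ⟨a, ha⟩ := MulAction.exists_smul_eq G Q S.P₀
  have hm : a * u * a⁻¹ ∈ (S.P₀ : Subgroup G) := by
    rw [← ha, Sylow.smul_def, Sylow.pointwise_smul_def]
    exact ⟨u, hQ (Subgroup.mem_zpowers u), rfl⟩
  obtain ⟨m, hmP, hm'⟩ := hm
  obtain ⟨n, -, hn⟩ := S.exists_normalizer_conj hmP (fun h => hu1 (by
    rw [h, map_one] at hm'
    simpa using hm'.symm))
  rw [hm'] at hn
  exact (isConj_iff.2 ⟨n, hn⟩).trans (isConj_iff.2 ⟨a⁻¹, by group⟩)

end Finite

end Setting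

end CfsgLib.J1Order
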