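import Mathlib.GroupTheory.SpecificGroups.Alternating
import Mathlib.Data.ZMod.Basic

/-!
# Finite facts about the group `Z/2 × A₅`
-/

set_option autoImplicit false

namespace CfsgLib.J1Order

set_option synthInstance.maxSize 1024

open Equiv

/-- The model of the centraliser of an involution. -/
abbrev Mdl : Type := Multiplicative (ZMod 2) × alternatingGroup (Fin 5)

/-- A three-cycle. -/
def cyc3 : alternatingGroup (Fin 5) := ⟨swap 0 1 * swap 1 2, Equiv.Perm.mem_alternatingGroup.2 (by decide +kernel)⟩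

/-- A five-cycle. -/
def cyc5 : alternatingGroup (Fin 5) := ⟨swap 0 1 * swap 1 2 * (swap 2 3 * swap 3 4), Equiv.Perm.mem_alternatingGroup.2 (by decide +kernel)⟩

/-- A double transposition fixing the last point. -/
def dbl : alternatingGroup (Fin 5) := ⟨swap 0 1 * swap 2 3, Equiv.Perm.mem_alternatingGroup.2 (by decide +kernel)⟩

/-- The central involution. -/
def mT : Mdl := (Multiplicative.ofAdd 1, 1)

/-- The element of order 5. -/
def mY : Mdl := (1, cyc5)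

/-- An involution inverting `mY`. -/
def mU : Mdl := (1, ⟨swap 1 4 * swap 2 3, Equiv.Perm.mem_alternatingGroup.2 (by decide +kernel)⟩)

/-- An element of order 3 normalising `mP`. -/
def mR : Mdl := (1, cyc3)

/-- A non-central involution of the second factor. -/
def mV : Mdl := (1, dbl)

/-- Representatives of the four classes of the section of the central involution. -/
def rep : Fin 4 → Mdl := ![mT, (Multiplicative.ofAdd 1, cyc3), (Multiplicative.ofAdd 1, cyc5),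
  (Multiplicative.ofAdd 1, cyc5 * cyc5)]

/-- A Sylow 2-subgroup of the model. -/
def mP : Subgroup Mdl where
  carrier := {m | m.2 * m.2 = 1 ∧ (m.2 : Perm (Fin 5)) 4 = 4}
  one_mem' := ⟨one_mul 1, rfl⟩
  mul_mem' {a b} ha hb :=
    (by decide +kernel : ∀ a b : alternatingGroup (Fin 5),
      (a * a = 1 ∧ (a : Perm (Fin 5)) 4 = 4) → (b * b = 1 ∧ (b : Perm (Fin 5)) 4 = 4) →
        (a * b) * (a * b) = 1 ∧ ((a * b : alternatingGroup (Fin 5)) : Perm (Fin 5)) 4 = 4)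
      a.2 b.2 ha hb
  inv_mem' {a} ha :=
    (by decide +kernel : ∀ a : alternatingGroup (Fin 5),
      (a * a = 1 ∧ (a : Perm (Fin 5)) 4 = 4) →
        a⁻¹ * a⁻¹ = 1 ∧ ((a⁻¹ : alternatingGroup (Fin 5)) : Perm (Fin 5)) 4 = 4)
      a.2 ha

instance (m : Mdl) : Decidable (m ∈ mP) :=
  inferInstanceAs (Decidable (m.2 * m.2 = 1 ∧ (m.2 : Perm (Fin 5)) 4 = 4))

theorem card_mdl : Fintype.card Mdl = 120 := by decide +kernel

theorem card_mP : Fintype.card {m : Mdl // m ∈ mP} = 8 := by decide +kernel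

theorem sq_mP : ∀ m : Mdl, m ∈ mP → m * m = 1 := by decide +kernel

theorem center_mdl : ∀ m : Mdl, (∀ n : Mdl, m * n = n * m) → m = 1 ∨ m = mT := by decide +kernel

theorem noncomm_mdl : mY * mR ≠ mR * mY := by decide +kernel

theorem mT_mul : ∀ m : Mdl, mT * m = m * mT := by decide +kernel

theorem mT_facts : mT ≠ 1 ∧ mT * mT = 1 ∧ mT ∈ mP ∧ mV ∈ mP ∧ mR ^ 3 = 1 := by decide +kernel

theorem mR_norm : ∀ m : Mdl, m ∈ mP ↔ mR * m * mR⁻¹ ∈ mP := by decide +kernel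

theorem mP_orbits : ∀ m : Mdl, m ∈ mP → m ≠ 1 → m = mT ∨
    (∃ k : Fin 3, m = mR ^ (k : ℕ) * mV * (mR ^ (k : ℕ))⁻¹) ∨
    (∃ k : Fin 3, m = mR ^ (k : ℕ) * (mT * mV) * (mR ^ (k : ℕ))⁻¹) := by
  decide +kernel

theorem rep_pow : ∀ i, rep i ^ 15 = mT := by decide +kernel

theorem rep_cent : ∀ i, Fintype.card {m : Mdl // m * rep i = rep i * m} =
    (![120, 6, 10, 10] : Fin 4 → ℕ) i := by
  decide +kernel

theorem rep_pairs : ∀ i, Fintype.card {u : Mdl // u * u = 1 ∧ u ≠ 1 ∧ u ≠ rep i ∧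
    u * rep i * (u * rep i) = 1} = (![30, 6, 10, 10] : Fin 4 → ℕ) i := by
  decide +kernel

theorem rep_not_conj : ∀ i j : Fin 4, ∀ m : Mdl, m * rep i * m⁻¹ = rep j → i = j := by
  decide +kernel

theorem rep_inv : ∀ i, ∃ m : Mdl, m * rep i * m⁻¹ = (rep i)⁻¹ := by decide +kernel

theorem rep_sq : ∃ m : Mdl, m * (rep 3 * rep 3) * m⁻¹ = mY ^ 4 ∧ rep 2 ^ 2 = mY ^ 2 := by
  decide +kernel

theorem five_class : ∀ l : Mdl, l ^ 5 = 1 → l ≠ 1 →
    ∃ m : Mdl, m * l * m⁻¹ = mY ∨ m * l * m⁻¹ = mY ^ 2 := by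
  decide +kernel

theorem mU_facts : mU * mU = 1 ∧ mU ≠ 1 ∧ mT * mU ≠ 1 ∧ (mT * mU) * (mT * mU) = 1 ∧
    mT * mU ≠ mU ∧ mU * mY * mU⁻¹ = mY⁻¹ ∧ mY ^ 5 = 1 ∧ mY ≠ 1 ∧ mT * mY = mY * mT ∧
    (mT * mY) ^ 5 = mT := by
  decide +kernel

end CfsgLib.J1Order
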