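import Cfsg.Agent.J1Order.Shape
import Mathlib.Tactic

/-!
# The arithmetic of the two shapes

Bounded searches, evaluated by the kernel: the first shape leaves the orders 175560 and 189000,
the second none.
-/

set_option autoImplicit false

namespace CfsgLib.J1Order

namespace Search

/-- Test all `x` of absolute value at most `L` congruent to `r` modulo 8. -/
def scan (L : ℕ) (r : ℤ) (f : ℤ → Bool) : Bool :=
  (List.range (2 * (L / 8) + 5)).all fun i => f (8 * ((i : ℤ) - ((L / 8 + 2 : ℕ) : ℤ)) + r)

theorem scan_spec {L : ℕ} {r : ℤ} {f : ℤ → Bool} (h : scan L r f = true) {x : ℤ}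
    (hr : x % 8 = r) (hx : x.natAbs ≤ L) : f x = true := by
  rw [scan, List.all_eq_true] at h
  have := h (x / 8 + ((L / 8 + 2 : ℕ) : ℤ)).toNat (List.mem_range.2 (by omega))
  rwa [show 8 * (((x / 8 + ((L / 8 + 2 : ℕ) : ℤ)).toNat : ℤ) - ((L / 8 + 2 : ℕ) : ℤ)) + r = x by
    omega] at this

/-- The final test in the first shape. -/
def good (a b c d : ℤ) : Bool :=
  decide (a % 8 = 5 ∧ b % 8 = 5 ∧ c % 8 = 3 ∧ d % 8 = 3 ∧ 7 ≤ a.natAbs ∧ 7 ≤ b.natAbs ∧
    7 ≤ c.natAbs ∧ 7 ≤ d.natAbs ∧ a + b + c + d = 0 ∧
    125 * (c * d) * (a + b - 1) - 27 * (a * b) * (a + b - 1) = 2 * (a * b) * (c * d) ∧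
    (144000 * (c * d * (a + b - 1))) %
      (c * d * (a + b - 1) + 9 * (c + d) * (a + b - 1) + c * d) = 0 ∧
    0 < (144000 * (c * d * (a + b - 1))) /
      (c * d * (a + b - 1) + 9 * (c + d) * (a + b - 1) + c * d) ∧
    (144000 * (c * d * (a + b - 1))) /
      (c * d * (a + b - 1) + 9 * (c + d) * (a + b - 1) + c * d) % 120 = 0 →
    (144000 * (c * d * (a + b - 1))) /
      (c * d * (a + b - 1) + 9 * (c + d) * (a + b - 1) + c * d) = 175560 ∨
    ((144000 * (c * d * (a + b - 1))) /
      (c * d * (a + b - 1) + 9 * (c + d) * (a + b - 1) + c * d) = 189000 ∧ a + b - 1 = -15))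

/-- The case of given `b` and `a`. -/
def pairBA (b a : ℤ) : Bool :=
  let q := 27 * (a * b) * (a + b - 1) / (125 * (a + b - 1) - 2 * (a * b))
  let r : ℤ := Int.sqrt ((a + b) * (a + b) - 4 * q)
  good a b ((-(a + b) + r) / 2) ((-(a + b) - r) / 2)

/-- The case of given `d` and `c`. -/
def pairDC (d c : ℤ) : Bool :=
  let p := 125 * (c * d) * (-c - d - 1) / (27 * (-c - d - 1) + 2 * (c * d))
  let r : ℤ := Int.sqrt ((c + d) * (c + d) - 4 * p)
  good ((-(c + d) + r) / 2) ((-(c + d) - r) / 2) c d

/-- The case of given `b` and `c`. -/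
def pairBC (b c : ℤ) : Bool :=
  let X := c * (125 - 2 * b) + 27 * b
  let Y := c * ((b + c) * (125 - 2 * b) + 125 * (b - 1)) + 27 * b * (b - 1)
  let Z := 125 * c * (b + c) * (b - 1)
  let t := fun a : ℤ => good a b c (-a - b - c)
  if X = 0 then (if Y = 0 then decide (Z ≠ 0) else t (-Z / Y)) else
    (let r : ℤ := Int.sqrt (Y * Y - 4 * X * Z)
     t ((-Y + r) / (2 * X)) && t ((-Y - r) / (2 * X)))

/-- All cases with given small `b`. -/
def checkB (b : ℤ) : Bool :=
  decide (b.natAbs < 7) ||
    (scan (250 * (b - 1).natAbs / (125 - 2 * b).natAbs) 5 (pairBA b) &&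
      scan (810 * b.natAbs / (7 * (125 - 2 * b).natAbs)) 3 (pairBC b))

/-- All cases with given small `d`. -/
def checkD (d : ℤ) : Bool :=
  decide (d.natAbs < 7) ||
    (scan (54 * (d + 1).natAbs / (2 * d - 27).natAbs) 3 (pairDC d) &&
      scan (3750 * d.natAbs / (7 * (2 * d - 27).natAbs)) 5 (fun b => pairBC b d))

theorem check_B : scan 267 5 checkB = true := by decide +kernel

theorem check_D : scan 57 3 checkD = true := by decide +kernel

/-- The final test in the second shape. -/
def good₂ (a c : ℤ) : Bool :=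
  decide (¬(a % 8 = 6 ∧ c % 8 = 3 ∧ (-1 - 2 * a - 2 * c) % 8 = 5 ∧ (1 + a + c) % 8 = 2 ∧
    7 ≤ a.natAbs ∧ 7 ≤ c.natAbs ∧ 7 ≤ (-1 - 2 * a - 2 * c).natAbs ∧ 7 ≤ (1 + a + c).natAbs ∧
    108 * (-1 - 2 * a - 2 * c) * c * (1 + a + c) + 125 * a * c * (1 + a + c) +
      27 * a * (-1 - 2 * a - 2 * c) * (1 + a + c) + 28 * a * (-1 - 2 * a - 2 * c) * c =
      2 * a * (-1 - 2 * a - 2 * c) * c * (1 + a + c)))

/-- All cases with given small first entry. -/
def checkA₂ (a : ℤ) : Bool :=
  decide (a.natAbs < 7) || if a = 54 then scan 200 3 (good₂ a) else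
    let L := 180 * a.natAbs / (2 * a - 108).natAbs
    scan L 5 (fun b => good₂ a ((-1 - b - 2 * a) / 2)) && scan L 3 (good₂ a) &&
      scan L 2 (fun d => good₂ a (d - 1 - a))

/-- All cases with given small third entry. -/
def checkC₂ (c : ℤ) : Bool :=
  decide (c.natAbs < 7) ||
    (let L := 261 * c.natAbs / (2 * c - 27).natAbs
     scan L 6 (fun a => good₂ a c) && scan L 5 (fun b => good₂ ((-1 - b - 2 * c) / 2) c) &&
      scan L 2 (fun d => good₂ (d - 1 - c) c))

/-- All cases with given small second entry. -/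
def checkB₂ (b : ℤ) : Bool :=
  decide (b.natAbs < 7) ||
    (let d := (1 - b) / 2
     let L := 135 * (b * d).natAbs / (2 * b * d - 125 * d - 28 * b).natAbs
     scan L 6 (fun a => good₂ a (d - 1 - a)) && scan L 3 (fun c => good₂ (d - 1 - c) c))

theorem check_A₂ : scan 216 6 checkA₂ = true := by decide +kernel

theorem check_B₂ : scan 250 5 checkB₂ = true := by decide +kernel

theorem check_C₂ : scan 54 3 checkC₂ = true := by decide +kernel

theorem sqrt_sq (x : ℤ) : Int.sqrt (x * x) = (x.natAbs : ℤ) := by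
  rw [Int.sqrt_eq]

/-- The data of the first shape in integers. -/
structure One (N a b c d : ℤ) : Prop where
  ma : a % 8 = 5
  mb : b % 8 = 5
  mc : c % 8 = 3
  md : d % 8 = 3
  ga : 7 ≤ a.natAbs
  gb : 7 ≤ b.natAbs
  gc : 7 ≤ c.natAbs
  gd : 7 ≤ d.natAbs
  gh : 7 ≤ (a + b - 1).natAbs
  sum : a + b + c + d = 0
  eq : 125 * (c * d) * (a + b - 1) - 27 * (a * b) * (a + b - 1) = 2 * (a * b) * (c * d)
  num : (c * d * (a + b - 1) + 9 * (c + d) * (a + b - 1) + c * d) * N =
    144000 * (c * d * (a + b - 1))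
  pos : 0 < N
  dvd : N % 120 = 0

variable {N a b c d : ℤ}

theorem One.swapAB (h : One N a b c d) : One N b a c d :=
  ⟨h.mb, h.ma, h.mc, h.md, h.gb, h.ga, h.gc, h.gd, by rw [add_comm]; exact h.gh, by
    linarith [h.sum], by linear_combination h.eq, by linear_combination h.num, h.pos, h.dvd⟩

theorem One.swapCD (h : One N a b c d) : One N a b d c :=
  ⟨h.ma, h.mb, h.md, h.mc, h.ga, h.gb, h.gd, h.gc, h.gh, by
    linarith [h.sum], by linear_combination h.eq, by linear_combination h.num, h.pos, h.dvd⟩

theorem One.of_good (h : One N a b c d) (hg : good a b c d = true) :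
    N = 175560 ∨ (N = 189000 ∧ a + b - 1 = -15) := by
  have hne : c * d * (a + b - 1) + 9 * (c + d) * (a + b - 1) + c * d ≠ 0 := by
    intro e
    have := h.num
    rw [e, zero_mul] at this
    have h' : c * d * (a + b - 1) = 0 := by linarith
    rcases mul_eq_zero.1 h' with e | e
    · rcases mul_eq_zero.1 e with e | e
      · have := h.gc; omega
      · have := h.gd; omega
    · have := h.gh; omega
  have hq := of_decide_eq_true hg ⟨h.ma, h.mb, h.mc, h.md, h.ga, h.gb, h.gc, h.gd, h.sum, h.eq, ?_⟩
  · rw [← h.num, Int.mul_ediv_cancel_left _ hne] at hq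
    exact hq
  rw [← h.num, Int.mul_emod_right, Int.mul_ediv_cancel_left _ hne]
  exact ⟨rfl, h.pos, h.dvd⟩

theorem One.of_root {r : ℤ} (h : One N a b c d) (hr : r = ((c - d).natAbs : ℤ))
    (hg : good a b ((-(a + b) + r) / 2) ((-(a + b) - r) / 2) = true) :
    N = 175560 ∨ (N = 189000 ∧ a + b - 1 = -15) := by
  have := h.sum
  rcases le_total d c with hcd | hcd
  · refine h.of_good ?_
    rwa [show (-(a + b) + r) / 2 = c by omega, show (-(a + b) - r) / 2 = d by omega] at hg
  · refine h.swapCD.of_good ?_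
    rwa [show (-(a + b) + r) / 2 = d by omega, show (-(a + b) - r) / 2 = c by omega] at hg

theorem One.of_pairBC (h : One N a b c d) (hg : pairBC b c = true) :
    N = 175560 ∨ (N = 189000 ∧ a + b - 1 = -15) := by
  have hd : d = -a - b - c := by linarith [h.sum]
  refine h.of_good ?_
  unfold pairBC at hg
  simp only at hg
  set X := c * (125 - 2 * b) + 27 * b with hX
  set Y := c * ((b + c) * (125 - 2 * b) + 125 * (b - 1)) + 27 * b * (b - 1) with hY
  set Z := 125 * c * (b + c) * (b - 1) with hZ
  have hq : X * (a * a) + Y * a + Z = 0 := by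
    have e := h.eq
    rw [hd] at e
    rw [hX, hY, hZ]
    linear_combination -e
  rw [hd]
  split_ifs at hg with h1 h2
  · rw [h1, h2] at hq
    exact absurd (by linarith : Z = 0) (of_decide_eq_true hg)
  · rw [h1, zero_mul, zero_add] at hq
    rwa [show -Z = Y * a by linarith, Int.mul_ediv_cancel_left _ h2] at hg
  · rw [show Y * Y - 4 * X * Z = (2 * X * a + Y) * (2 * X * a + Y) by
      linear_combination (-4 * X) * hq, sqrt_sq, Bool.and_eq_true] at hg
    have h2X : 2 * X ≠ 0 := by omega
    rcases Int.natAbs_eq (2 * X * a + Y) with e | e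
    · have := hg.1
      rwa [show (-Y + ((2 * X * a + Y).natAbs : ℤ)) = 2 * X * a by linarith,
        Int.mul_ediv_cancel_left _ h2X] at this
    · have := hg.2
      rwa [show (-Y - ((2 * X * a + Y).natAbs : ℤ)) = 2 * X * a by linarith,
        Int.mul_ediv_cancel_left _ h2X] at this

theorem One.of_small_b (h : One N a b c d) (hb : b.natAbs ≤ 267) :
    N = 175560 ∨ (N = 189000 ∧ a + b - 1 = -15) := by
  have hc := scan_spec check_B h.mb hb
  have hgb := h.gb
  simp only [checkB, Bool.or_eq_true, decide_eq_true_eq, Bool.and_eq_true] at hc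
  obtain ⟨hBA, hBC⟩ := hc.resolve_left (by omega)
  have hE : 0 < (125 - 2 * b).natAbs := by omega
  have he := h.eq
  by_cases hcase : a.natAbs * (125 - 2 * b).natAbs < 250 * (b - 1).natAbs
  · have hp := scan_spec hBA h.ma ((Nat.le_div_iff_mul_le hE).2 hcase.le)
    have hden : 125 * (a + b - 1) - 2 * (a * b) ≠ 0 := by
      intro e
      have h0 : 27 * (a * b) * (a + b - 1) = 0 := by linear_combination c * d * e - he
      have hga := h.ga; have hgh := h.gh
      rcases mul_eq_zero.1 h0 with e' | e'
      · rcases mul_eq_zero.1 e' with e' | e'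
        · norm_num at e'
        · rcases mul_eq_zero.1 e' with e' | e' <;> omega
      · omega
    simp only [pairBA] at hp
    rw [show 27 * (a * b) * (a + b - 1) = (125 * (a + b - 1) - 2 * (a * b)) * (c * d) by
      linear_combination -he, Int.mul_ediv_cancel_left _ hden,
      show (a + b) * (a + b) - 4 * (c * d) = (c - d) * (c - d) by
        linear_combination (a + b - c - d) * h.sum, sqrt_sq] at hp
    exact h.of_root rfl hp
  · -- the smaller of the two other entries is small
    suffices ∀ c d, One N a b c d → c.natAbs ≤ d.natAbs →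
        N = 175560 ∨ (N = 189000 ∧ a + b - 1 = -15) by
      rcases le_total c.natAbs d.natAbs with hl | hl
      · exact this c d h hl
      · exact this d c h.swapCD hl
    intro c d h hl
    refine h.of_pairBC (scan_spec hBC h.mc ((Nat.le_div_iff_mul_le (by omega)).2 ?_))
    set E := 125 - 2 * b with hEdef
    set den := E * a + 125 * (b - 1) with hden
    have e1 : (c * d).natAbs * den.natAbs = 27 * a.natAbs * b.natAbs * (a + b - 1).natAbs := by
      rw [← Int.natAbs_mul, show c * d * den = 27 * a * b * (a + b - 1) by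
        rw [hden, hEdef]; linear_combination h.eq]
      simp [Int.natAbs_mul]
    have e2 : (E * a).natAbs = E.natAbs * a.natAbs := Int.natAbs_mul _ _
    have e3 : a.natAbs * E.natAbs ≤ 2 * den.natAbs := by
      rw [mul_comm a.natAbs] at hcase
      rw [mul_comm a.natAbs]
      omega
    have e4 : 7 * (a + b - 1).natAbs ≤ 15 * d.natAbs := by
      have := h.gd; have := h.sum; omega
    rw [Int.natAbs_mul] at e1
    have hd0 : 0 < d.natAbs := by have := h.gd; omega
    have ha0 : 0 < a.natAbs := by have := h.ga; omega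
    refine Nat.le_of_mul_le_mul_right (c := d.natAbs * a.natAbs) ?_ (Nat.mul_pos hd0 ha0)
    calc c.natAbs * (7 * E.natAbs) * (d.natAbs * a.natAbs)
        = 7 * (c.natAbs * d.natAbs) * (a.natAbs * E.natAbs) := by ring
      _ ≤ 7 * (c.natAbs * d.natAbs) * (2 * den.natAbs) := Nat.mul_le_mul_left _ e3
      _ = 54 * a.natAbs * b.natAbs * (7 * (a + b - 1).natAbs) := by
          linear_combination 14 * e1
      _ ≤ 54 * a.natAbs * b.natAbs * (15 * d.natAbs) := Nat.mul_le_mul_left _ e4
      _ = 810 * b.natAbs * (d.natAbs * a.natAbs) := by ring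

theorem One.of_small_d (h : One N a b c d) (hd : d.natAbs ≤ 57) :
    N = 175560 ∨ (N = 189000 ∧ a + b - 1 = -15) := by
  have hc := scan_spec check_D h.md hd
  have hgd := h.gd
  simp only [checkD, Bool.or_eq_true, decide_eq_true_eq, Bool.and_eq_true] at hc
  obtain ⟨hDC, hDB⟩ := hc.resolve_left (by omega)
  have hE : 0 < (2 * d - 27).natAbs := by omega
  have he := h.eq
  have hH : a + b - 1 = -c - d - 1 := by linarith [h.sum]
  by_cases hcase : c.natAbs * (2 * d - 27).natAbs < 54 * (d + 1).natAbs
  · have hp := scan_spec hDC h.mc ((Nat.le_div_iff_mul_le hE).2 hcase.le)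
    have hden : 27 * (a + b - 1) + 2 * (c * d) ≠ 0 := by
      intro e
      have h0 : 125 * (c * d) * (a + b - 1) = 0 := by linear_combination a * b * e + he
      have hgc := h.gc; have hgh := h.gh
      rcases mul_eq_zero.1 h0 with e' | e'
      · rcases mul_eq_zero.1 e' with e' | e'
        · norm_num at e'
        · rcases mul_eq_zero.1 e' with e' | e' <;> omega
      · omega
    simp only [pairDC] at hp
    rw [← hH, show 125 * (c * d) * (a + b - 1) = (27 * (a + b - 1) + 2 * (c * d)) * (a * b) by
      linear_combination he, Int.mul_ediv_cancel_left _ hden,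
      show (c + d) * (c + d) - 4 * (a * b) = (a - b) * (a - b) by
        linear_combination (c + d - a - b) * h.sum, sqrt_sq] at hp
    have := h.sum
    rcases le_total b a with hab | hab
    · refine h.of_good ?_
      rwa [show (-(c + d) + ((a - b).natAbs : ℤ)) / 2 = a by omega,
        show (-(c + d) - ((a - b).natAbs : ℤ)) / 2 = b by omega] at hp
    · rw [show a + b - 1 = b + a - 1 by ring]
      refine h.swapAB.of_good ?_
      rwa [show (-(c + d) + ((a - b).natAbs : ℤ)) / 2 = b by omega,
        show (-(c + d) - ((a - b).natAbs : ℤ)) / 2 = a by omega] at hp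
  · suffices ∀ a b, One N a b c d → b.natAbs ≤ a.natAbs →
        N = 175560 ∨ (N = 189000 ∧ a + b - 1 = -15) by
      rcases le_total b.natAbs a.natAbs with hl | hl
      · exact this a b h hl
      · rw [show a + b - 1 = b + a - 1 by ring]
        exact this b a h.swapAB hl
    intro a b h hl
    refine h.swapCD.of_pairBC (scan_spec hDB h.mb ((Nat.le_div_iff_mul_le (by omega)).2 ?_))
    set E := 2 * d - 27 with hEdef
    set den := E * c - 27 * (d + 1) with hden
    have e1 : (a * b).natAbs * den.natAbs = 125 * c.natAbs * d.natAbs * (a + b - 1).natAbs := by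
      rw [← Int.natAbs_mul, show a * b * den = 125 * c * d * (a + b - 1) by
        rw [hden, hEdef]; linear_combination -h.eq - 27 * (a * b) * h.sum]
      simp [Int.natAbs_mul]
    have e2 : (E * c).natAbs = E.natAbs * c.natAbs := Int.natAbs_mul _ _
    have e3 : c.natAbs * E.natAbs ≤ 2 * den.natAbs := by
      rw [mul_comm c.natAbs] at hcase
      rw [mul_comm c.natAbs]
      omega
    have e4 : 7 * (a + b - 1).natAbs ≤ 15 * a.natAbs := by
      have := h.ga; omega
    rw [Int.natAbs_mul] at e1
    have hc0 : 0 < c.natAbs := by have := h.gc; omega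
    have ha0 : 0 < a.natAbs := by have := h.ga; omega
    refine Nat.le_of_mul_le_mul_right (c := a.natAbs * c.natAbs) ?_ (Nat.mul_pos ha0 hc0)
    calc b.natAbs * (7 * E.natAbs) * (a.natAbs * c.natAbs)
        = 7 * (a.natAbs * b.natAbs) * (c.natAbs * E.natAbs) := by ring
      _ ≤ 7 * (a.natAbs * b.natAbs) * (2 * den.natAbs) := Nat.mul_le_mul_left _ e3
      _ = 250 * c.natAbs * d.natAbs * (7 * (a + b - 1).natAbs) := by
          linear_combination 14 * e1
      _ ≤ 250 * c.natAbs * d.natAbs * (15 * a.natAbs) := Nat.mul_le_mul_left _ e4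
      _ = 3750 * d.natAbs * (a.natAbs * c.natAbs) := by ring

theorem One.result (h : One N a b c d) : N = 175560 ∨ (N = 189000 ∧ a + b - 1 = -15) := by
  by_cases hb : b.natAbs ≤ 267
  · exact h.of_small_b hb
  by_cases ha : a.natAbs ≤ 267
  · rw [show a + b - 1 = b + a - 1 by ring]
    exact h.swapAB.of_small_b ha
  by_cases hd : d.natAbs ≤ 57
  · exact h.of_small_d hd
  by_cases hc : c.natAbs ≤ 57
  · exact h.swapCD.of_small_d hc
  exfalso
  have hsum := h.sum
  set Hn := (a + b - 1).natAbs with hHn
  have k1 : Hn ≤ a.natAbs + b.natAbs + 1 := by omega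
  have k2 : Hn ≤ c.natAbs + d.natAbs + 1 := by omega
  have key : 2 * (a.natAbs * b.natAbs) * (c.natAbs * d.natAbs) ≤
      Hn * (125 * (c.natAbs * d.natAbs) + 27 * (a.natAbs * b.natAbs)) := by
    calc 2 * (a.natAbs * b.natAbs) * (c.natAbs * d.natAbs)
        = (2 * (a * b) * (c * d)).natAbs := by simp [Int.natAbs_mul]
      _ = (125 * (c * d) * (a + b - 1) - 27 * (a * b) * (a + b - 1)).natAbs := by rw [h.eq]
      _ ≤ (125 * (c * d) * (a + b - 1)).natAbs + (27 * (a * b) * (a + b - 1)).natAbs :=
          Int.natAbs_sub_le _ _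
      _ = _ := by simp [Int.natAbs_mul, ← hHn]; ring
  have k3 : Hn * 71824 ≤ 537 * (a.natAbs * b.natAbs) := by
    have := Nat.mul_le_mul (show 268 ≤ a.natAbs by omega) (show 268 ≤ b.natAbs by omega)
    have := Nat.mul_le_mul_left a.natAbs (show 268 ≤ b.natAbs by omega)
    have := Nat.mul_le_mul_right b.natAbs (show 268 ≤ a.natAbs by omega)
    linarith
  have k4 : Hn * 3364 ≤ 117 * (c.natAbs * d.natAbs) := by
    have := Nat.mul_le_mul (show 58 ≤ c.natAbs by omega) (show 58 ≤ d.natAbs by omega)
    have := Nat.mul_le_mul_left c.natAbs (show 58 ≤ d.natAbs by omega)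
    have := Nat.mul_le_mul_right d.natAbs (show 58 ≤ c.natAbs by omega)
    linarith
  have k5 : 0 < (a.natAbs * b.natAbs) * (c.natAbs * d.natAbs) := by
    refine Nat.mul_pos (Nat.mul_pos ?_ ?_) (Nat.mul_pos ?_ ?_) <;> omega
  have k6 := Nat.mul_le_mul_right (125 * 3364 * (c.natAbs * d.natAbs)) k3
  have k7 := Nat.mul_le_mul_right (27 * 71824 * (a.natAbs * b.natAbs)) k4
  nlinarith

theorem two_min {k x y z m : ℤ} {p q r : ℕ}
    (h : k * (x * y * z) = m * ((p : ℤ) * (y * z) + q * (x * z) + r * (x * y)))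
    (hy : x.natAbs ≤ y.natAbs) (hz : x.natAbs ≤ z.natAbs) (hpos : 0 < x.natAbs) :
    x.natAbs * k.natAbs ≤ (p + q + r) * m.natAbs := by
  refine Nat.le_of_mul_le_mul_right (c := y.natAbs * z.natAbs) ?_
    (Nat.mul_pos (by omega) (by omega))
  calc x.natAbs * k.natAbs * (y.natAbs * z.natAbs) = (k * (x * y * z)).natAbs := by
        simp [Int.natAbs_mul]; ring
    _ = (m * ((p : ℤ) * (y * z) + q * (x * z) + r * (x * y))).natAbs := by rw [h]
    _ = m.natAbs * ((p : ℤ) * (y * z) + q * (x * z) + r * (x * y)).natAbs := Int.natAbs_mul _ _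
    _ ≤ m.natAbs * (p * (y.natAbs * z.natAbs) + q * (x.natAbs * z.natAbs) +
          r * (x.natAbs * y.natAbs)) := by
        refine Nat.mul_le_mul_left _ (((Int.natAbs_add_le _ _).trans
          (Nat.add_le_add_right (Int.natAbs_add_le _ _) _)).trans (le_of_eq ?_))
        simp [Int.natAbs_mul]
    _ ≤ m.natAbs * (p * (y.natAbs * z.natAbs) + q * (y.natAbs * z.natAbs) +
          r * (y.natAbs * z.natAbs)) := by
        refine Nat.mul_le_mul_left _ (Nat.add_le_add (Nat.add_le_add_left
          (Nat.mul_le_mul_left _ (Nat.mul_le_mul_right _ hy)) _) ?_)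
        rw [mul_comm x.natAbs]
        exact Nat.mul_le_mul_left _ (Nat.mul_le_mul_left _ hz)
    _ = _ := by ring

theorem three_min {k x y z m : ℤ} {p q r : ℕ}
    (h : k * (x * y * z) = m * ((p : ℤ) * (y * z) + q * (x * z) + r * (x * y)))
    (hx0 : 0 < x.natAbs) (hy0 : 0 < y.natAbs) (hz0 : 0 < z.natAbs) (hk : 0 < k.natAbs) :
    x.natAbs ≤ (p + q + r) * m.natAbs / k.natAbs ∨ y.natAbs ≤ (p + q + r) * m.natAbs / k.natAbs ∨
      z.natAbs ≤ (p + q + r) * m.natAbs / k.natAbs := by
  simp only [Nat.le_div_iff_mul_le hk]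
  by_cases h1 : x.natAbs ≤ y.natAbs ∧ x.natAbs ≤ z.natAbs
  · exact Or.inl (two_min h h1.1 h1.2 hx0)
  by_cases h2 : y.natAbs ≤ z.natAbs
  · have := two_min (k := k) (x := y) (y := x) (z := z) (m := m) (p := q) (q := p) (r := r)
      (by linear_combination h) (by omega) h2 hy0
    exact Or.inr (Or.inl (by linarith))
  · have := two_min (k := k) (x := z) (y := y) (z := x) (m := m) (p := r) (q := q) (r := p)
      (by linear_combination h) (by omega) (by omega) hz0
    exact Or.inr (Or.inr (by linarith))

theorem two_false (ma : a % 8 = 6) (mb : b % 8 = 5) (mc : c % 8 = 3) (md : d % 8 = 2)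
    (ga : 7 ≤ a.natAbs) (gb : 7 ≤ b.natAbs) (gc : 7 ≤ c.natAbs) (gd : 7 ≤ d.natAbs)
    (hs : a + b + c + d = 0) (hs' : 1 + 2 * a + b + 2 * c = 0)
    (he : 108 * b * c * d + 125 * a * c * d + 27 * a * b * d + 28 * a * b * c =
      2 * a * b * c * d) : False := by
  have hb : b = -1 - 2 * a - 2 * c := by linarith
  have hd : d = 1 + a + c := by linarith
  have hbad : good₂ a c = true → False := fun hg => by
    refine of_decide_eq_true hg ⟨ma, mc, hb ▸ mb, hd ▸ md, ga, gc, hb ▸ gb, hd ▸ gd, ?_⟩
    rw [← hb, ← hd]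
    exact he
  by_cases ha : a.natAbs ≤ 216
  · have h := scan_spec check_A₂ ma ha
    simp only [checkA₂, Bool.or_eq_true, decide_eq_true_eq] at h
    have h := h.resolve_left (by omega)
    split_ifs at h with h54
    · refine hbad (scan_spec h mc ?_)
      subst h54
      have e : 15 * c * c - 2090 * c - 161865 = 0 := by
        rw [hb, hd] at he
        refine mul_left_cancel₀ (show (54 : ℤ) ≠ 0 by norm_num) ?_
        linear_combination he
      have : c ≤ 200 := by nlinarith
      have : -200 ≤ c := by nlinarith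
      omega
    · simp only [Bool.and_eq_true] at h
      rcases three_min (k := 2 * a - 108) (x := b) (y := c) (z := d) (m := a) (p := 125) (q := 27)
        (r := 28) (by push_cast; linear_combination -he) (by omega) (by omega) (by omega)
        (by omega) with hx | hx | hx
      · have := scan_spec h.1.1 mb hx
        rw [show (-1 - b - 2 * a) / 2 = c by omega] at this
        exact hbad this
      · exact hbad (scan_spec h.1.2 mc hx)
      · have := scan_spec h.2 md hx
        rw [show d - 1 - a = c by omega] at this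
        exact hbad this
  by_cases hb250 : b.natAbs ≤ 250
  · have h := scan_spec check_B₂ mb hb250
    simp only [checkB₂, Bool.or_eq_true, decide_eq_true_eq, Bool.and_eq_true] at h
    have h := h.resolve_left (by omega)
    rw [show (1 - b) / 2 = d by omega] at h
    set k := 2 * b * d - 125 * d - 28 * b with hk
    have hk0 : 0 < k.natAbs := by
      rw [Int.natAbs_pos]
      intro e
      have e2 : 2 * b * b - 71 * b + 125 = 0 := by
        rw [hk, show d = (1 : ℤ) + a + c from hd] at e
        have h2 : 2 * a + 2 * c = -1 - b := by linarith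
        linear_combination (-2 : ℤ) * e + (2 * b - 125) * h2
      have : b ≤ 34 := by nlinarith
      have : 1 ≤ b := by nlinarith
      interval_cases b <;> omega
    have e1 : k * (a * c) = b * d * (108 * c + 27 * a) := by
      rw [hk]; linear_combination -he
    rcases le_total a.natAbs c.natAbs with hl | hl
    · have hL : a.natAbs ≤ 135 * (b * d).natAbs / k.natAbs := by
        rw [Nat.le_div_iff_mul_le hk0]
        refine Nat.le_of_mul_le_mul_right (c := c.natAbs) ?_ (by omega)
        calc a.natAbs * k.natAbs * c.natAbs = (k * (a * c)).natAbs := by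
              simp [Int.natAbs_mul]; ring
          _ = (b * d).natAbs * (108 * c + 27 * a).natAbs := by rw [e1, Int.natAbs_mul]
          _ ≤ (b * d).natAbs * (135 * c.natAbs) := Nat.mul_le_mul_left _ (by omega)
          _ = _ := by ring
      have := scan_spec h.1 ma hL
      rw [show d - 1 - a = c by omega] at this
      exact hbad this
    · have hL : c.natAbs ≤ 135 * (b * d).natAbs / k.natAbs := by
        rw [Nat.le_div_iff_mul_le hk0]
        refine Nat.le_of_mul_le_mul_right (c := a.natAbs) ?_ (by omega)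
        calc c.natAbs * k.natAbs * a.natAbs = (k * (a * c)).natAbs := by
              simp [Int.natAbs_mul]; ring
          _ = (b * d).natAbs * (108 * c + 27 * a).natAbs := by rw [e1, Int.natAbs_mul]
          _ ≤ (b * d).natAbs * (135 * a.natAbs) := Nat.mul_le_mul_left _ (by omega)
          _ = _ := by ring
      have := scan_spec h.2 mc hL
      rw [show d - 1 - c = a by omega] at this
      exact hbad this
  by_cases hc : c.natAbs ≤ 54
  · have h := scan_spec check_C₂ mc hc
    simp only [checkC₂, Bool.or_eq_true, decide_eq_true_eq, Bool.and_eq_true] at h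
    have h := h.resolve_left (by omega)
    rcases three_min (k := 2 * c - 27) (x := a) (y := b) (z := d) (m := c) (p := 108) (q := 125)
      (r := 28) (by push_cast; linear_combination -he) (by omega) (by omega) (by omega)
      (by omega) with hx | hx | hx
    · exact hbad (scan_spec h.1.1 ma hx)
    · have := scan_spec h.1.2 mb hx
      rw [show (-1 - b - 2 * c) / 2 = a by omega] at this
      exact hbad this
    · have := scan_spec h.2 md hx
      rw [show d - 1 - c = a by omega] at this
      exact hbad this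
  -- everything is large
  have hd57 : 57 ≤ d.natAbs := by omega
  set α := a.natAbs with hα
  set β := b.natAbs with hβ
  set γ := c.natAbs with hγ
  set δ := d.natAbs with hδ
  have key : 2 * (α * β * γ * δ) ≤
      108 * (β * γ * δ) + 125 * (α * γ * δ) + 27 * (α * β * δ) + 28 * (α * β * γ) := by
    calc 2 * (α * β * γ * δ) = (2 * a * b * c * d).natAbs := by
          simp [Int.natAbs_mul, hα, hβ, hγ, hδ]; ring
      _ = (108 * b * c * d + 125 * a * c * d + 27 * a * b * d + 28 * a * b * c).natAbs := by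
          rw [he]
      _ ≤ (108 * b * c * d).natAbs + (125 * a * c * d).natAbs + (27 * a * b * d).natAbs +
          (28 * a * b * c).natAbs :=
        (Int.natAbs_add_le _ _).trans (Nat.add_le_add_right ((Int.natAbs_add_le _ _).trans
          (Nat.add_le_add_right (Int.natAbs_add_le _ _) _)) _)
      _ = _ := by simp [Int.natAbs_mul, hα, hβ, hγ, hδ]; ring
  have u1 := Nat.mul_le_mul_left (β * γ * δ) (show 217 ≤ α by omega)
  have u2 := Nat.mul_le_mul_left (α * γ * δ) (show 251 ≤ β by omega)
  have u3 := Nat.mul_le_mul_left (α * β * δ) (show 55 ≤ γ by omega)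
  have u4 := Nat.mul_le_mul_left (α * β * γ) (show 57 ≤ δ by omega)
  have u5 : 0 < α * β * γ * δ := by
    refine Nat.mul_pos (Nat.mul_pos (Nat.mul_pos ?_ ?_) ?_) ?_ <;> omega
  nlinarith

end Search

open Search in
/-- The first shape: the order is 175560 or 189000. -/
theorem ShapeOne.card_eq {N A B C D H : ℤ} (h : ShapeOne N A B C D H) (hN : 0 < N)
    (hN' : (120 : ℤ) ∣ N) : N = 175560 ∨ (N = 189000 ∧ H = -15) := by
  have hA : A ≠ 0 := fun e => by simpa [e] using h.bigA
  have hB : B ≠ 0 := fun e => by simpa [e] using h.bigB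
  have hC : C ≠ 0 := fun e => by simpa [e] using h.bigC
  have hD : D ≠ 0 := fun e => by simpa [e] using h.bigD
  have hH : H ≠ 0 := fun e => by simpa [e] using h.bigH
  have hA' : (A : ℚ) ≠ 0 := Int.cast_ne_zero.2 hA
  have hB' : (B : ℚ) ≠ 0 := Int.cast_ne_zero.2 hB
  have hC' : (C : ℚ) ≠ 0 := Int.cast_ne_zero.2 hC
  have hD' : (D : ℚ) ≠ 0 := Int.cast_ne_zero.2 hD
  have hH' : (H : ℚ) ≠ 0 := Int.cast_ne_zero.2 hH
  have hN0 : (N : ℚ) ≠ 0 := Int.cast_ne_zero.2 hN.ne'
  have hH1 : (H : ℚ) + 1 ≠ 0 := by
    exact_mod_cast (show H + 1 ≠ 0 from fun e => by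
      have := h.bigH
      rw [show H = -1 by omega] at this
      norm_num at this)
  have s : (A : ℚ) + B = H + 1 := by
    have := h.eqH
    exact_mod_cast (show A + B = H + 1 by omega)
  have s' : (C : ℚ) + D = -(H + 1) := by
    have := h.eqH; have := h.sum
    exact_mod_cast (show C + D = -(H + 1) by omega)
  have e3 : (125 : ℚ) / A + 125 / B + 27 / C + 27 / D = 2 + 2 / H := by
    refine mul_right_cancel₀ hN0 ?_
    linear_combination (7 : ℚ) * h.eq₂ - 2 * h.eq₁
  have e4 : (1 + 9 / (C : ℚ) + 9 / D + 1 / H) * N = 144000 := by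
    linear_combination h.eq₁ - h.eq₂
  have t1 : 125 * ((C : ℚ) * D) * H - 27 * (A * B) * H = 2 * (A * B) * (C * D) := by
    refine mul_left_cancel₀ hH1 ?_
    field_simp at e3
    linear_combination e3 - (125 * ((C : ℚ) * D) * H) * s - (27 * (A * B) * H) * s'
  have t2 : ((C : ℚ) * D * H + 9 * (C + D) * H + C * D) * N = 144000 * (C * D * H) := by
    field_simp at e4
    linear_combination e4
  have hkey : One N A B C D := by
    refine ⟨h.modA, h.modB, h.modC, h.modD, ?_, ?_, ?_, ?_, ?_, h.sum, ?_, ?_, hN, by omega⟩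
    · have := h.bigA; rw [Int.abs_eq_natAbs] at this; omega
    · have := h.bigB; rw [Int.abs_eq_natAbs] at this; omega
    · have := h.bigC; rw [Int.abs_eq_natAbs] at this; omega
    · have := h.bigD; rw [Int.abs_eq_natAbs] at this; omega
    · rw [← h.eqH]; have := h.bigH; rw [Int.abs_eq_natAbs] at this; omega
    · rw [← h.eqH]; exact_mod_cast t1
    · rw [← h.eqH]; exact_mod_cast t2
  have := hkey.result
  rwa [← h.eqH] at this

open Search in
/-- The second shape does not occur. -/
theorem ShapeTwo.false {N A B C D : ℤ} (h : ShapeTwo N A B C D) (hN : 0 < N) : False := by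
  have hA : A ≠ 0 := fun e => by simpa [e] using h.bigA
  have hB : B ≠ 0 := fun e => by simpa [e] using h.bigB
  have hC : C ≠ 0 := fun e => by simpa [e] using h.bigC
  have hD : D ≠ 0 := fun e => by simpa [e] using h.bigD
  have hA' : (A : ℚ) ≠ 0 := Int.cast_ne_zero.2 hA
  have hB' : (B : ℚ) ≠ 0 := Int.cast_ne_zero.2 hB
  have hC' : (C : ℚ) ≠ 0 := Int.cast_ne_zero.2 hC
  have hD' : (D : ℚ) ≠ 0 := Int.cast_ne_zero.2 hD
  have hN0 : (N : ℚ) ≠ 0 := Int.cast_ne_zero.2 hN.ne'
  have e3 : (108 : ℚ) / A + 125 / B + 27 / C + 28 / D = 2 := by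
    refine mul_right_cancel₀ hN0 ?_
    linear_combination (7 : ℚ) * h.eq₂ - 2 * h.eq₁
  refine two_false h.modA h.modB h.modC h.modD ?_ ?_ ?_ ?_ h.sum h.sum' ?_
  · have := h.bigA; rw [Int.abs_eq_natAbs] at this; omega
  · have := h.bigB; rw [Int.abs_eq_natAbs] at this; omega
  · have := h.bigC; rw [Int.abs_eq_natAbs] at this; omega
  · have := h.bigD; rw [Int.abs_eq_natAbs] at this; omega
  · have : (108 : ℚ) * B * C * D + 125 * A * C * D + 27 * A * B * D + 28 * A * B * C =
        2 * A * B * C * D := by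
      field_simp at e3
      linear_combination e3
    exact_mod_cast this

end CfsgLib.J1Order
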