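import Cfsg.Agent.J1Order.Values
import Mathlib.GroupTheory.FiniteAbelian.Duality
import Mathlib.Analysis.Complex.Polynomial.Basic
import Mathlib.RingTheory.RootsOfUnity.AlgebraicallyClosed

/-!
# No group of order 189000

A character of degree 15 fixed by the conjugation makes the Sylow 5-subgroups abelian, and a
four-group normalising one of them forces too many eigenspaces.
-/

set_option autoImplicit false
set_option linter.style.haveILetI false
set_option linter.unusedSectionVars false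

namespace CfsgLib.J1Order

open Cfsg CfsgLib.Characters
open scoped ComplexConjugate

universe u

set_option synthInstance.maxSize 1024
set_option synthInstance.maxHeartbeats 100000

/-! ### Eigenvalue counting in coordinates -/

/-- The coordinate space. -/
abbrev Crd : Type := ZMod 5 × ZMod 5 × ZMod 5

/-- The multipliers coming from scalars and sign changes. -/
def mult : List Crd :=
  [(1, 1, 1), (1, 4, 4), (4, 1, 4), (4, 4, 1), (2, 2, 2), (2, 3, 3), (3, 2, 3), (3, 3, 2),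
    (4, 4, 4), (4, 1, 1), (1, 4, 1), (1, 1, 4), (3, 3, 3), (3, 2, 2), (2, 3, 2), (2, 2, 3)]

theorem orbit_facts : ∀ l : Crd,
    ((l.1 = 0 ∧ l.2.1 = 0) ∨ (l.1 = 0 ∧ l.2.2 = 0) ∨ (l.2.1 = 0 ∧ l.2.2 = 0)) ∨
    16 ≤ ((mult.map (· * l)).toFinset).card ∨
    (8 ≤ ((mult.map (· * l)).toFinset).card ∧
      ((∀ m ∈ mult.map (· * l), m.1 = 0) ∨ (∀ m ∈ mult.map (· * l), m.2.1 = 0) ∨
        (∀ m ∈ mult.map (· * l), m.2.2 = 0))) := by
  decide +kernel

/-- No multiplicity function with these sums and symmetries. -/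
theorem no_mult (F : Crd → ℕ) (htot : ∑ l, F l = 15)
    (h1 : ∑ l, (if l.1 = 0 then F l else 0) = 7)
    (h2 : ∑ l, (if l.2.1 = 0 then F l else 0) = 7)
    (h3 : ∑ l, (if l.2.2 = 0 then F l else 0) = 7)
    (hinv : ∀ d ∈ mult, ∀ l, F (d * l) = F l) : False := by
  classical
  have hsupp : ∀ l, F l ≠ 0 →
      (l.1 = 0 ∧ l.2.1 = 0) ∨ (l.1 = 0 ∧ l.2.2 = 0) ∨ (l.2.1 = 0 ∧ l.2.2 = 0) := by
    intro l hl
    have horb : ∀ m ∈ (mult.map (· * l)).toFinset, 1 ≤ F m := by
      intro m hm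
      obtain ⟨d, hd, rfl⟩ := List.mem_map.1 (List.mem_toFinset.1 hm)
      rw [hinv d hd]
      omega
    rcases orbit_facts l with h | h | ⟨h, h'⟩
    · exact h
    · exfalso
      have := (Finset.card_nsmul_le_sum _ F 1 horb).trans
        (Finset.sum_le_sum_of_subset (Finset.subset_univ _))
      rw [htot, smul_eq_mul, mul_one] at this
      omega
    · exfalso
      have key : ∀ (p : Crd → Prop) [DecidablePred p], (∀ m ∈ mult.map (· * l), p m) →
          ∑ x, (if p x then F x else 0) = 7 → False := by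
        intro p _ hp hs
        rw [← Finset.sum_filter] at hs
        have := (Finset.card_nsmul_le_sum _ F 1 horb).trans
          (Finset.sum_le_sum_of_subset (t := Finset.univ.filter p) fun m hm =>
            Finset.mem_filter.2 ⟨Finset.mem_univ m, hp m (List.mem_toFinset.1 hm)⟩)
        rw [hs, smul_eq_mul, mul_one] at this
        omega
      rcases h' with h' | h' | h'
      · exact key _ h' h1
      · exact key _ h' h2
      · exact key _ h' h3
  have hle : ∀ l ∈ (Finset.univ : Finset Crd), 2 * F l ≤ (if l.1 = 0 then F l else 0) +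
      ((if l.2.1 = 0 then F l else 0) + (if l.2.2 = 0 then F l else 0)) := by
    intro l _
    by_cases hl : F l = 0
    · simp [hl]
    rcases hsupp l hl with ⟨a, b⟩ | ⟨a, b⟩ | ⟨a, b⟩ <;> simp [a, b] <;> split_ifs <;> omega
  have := Finset.sum_le_sum hle
  rw [← Finset.mul_sum, Finset.sum_add_distrib, Finset.sum_add_distrib, htot, h1, h2, h3] at this
  omega

/-! ### Model facts -/

theorem five_facts : (∀ m : Mdl, m * mY = mY * m → m * m = 1 → m = 1 ∨ m = mT) ∧
    (∀ m : Mdl, m ^ 5 = 1 → m * mU = mU * m → m = 1) ∧ mT * mU = mU * mT ∧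
    mY ^ 7 = mY ^ 2 ∧
    (∀ k : ZMod 10, k = 0 ∨
      (k.val % 2 = 1 ∧ ∃ i : Fin 4, ∃ m : Mdl, m * (mT * mY) ^ k.val * m⁻¹ = rep i) ∨
      (k.val % 2 = 0 ∧ ∃ m : Mdl, m * (mT * mY) ^ k.val * m⁻¹ = mY ∨
        m * (mT * mY) ^ k.val * m⁻¹ = mY ^ 2)) := by
  decide +kernel

/-- The four-group of the model. -/
def mF : Subgroup Mdl where
  carrier := {m | m = 1 ∨ m = mT ∨ m = mU ∨ m = mT * mU}
  one_mem' := Or.inl rfl
  mul_mem' {a b} ha hb :=
    (by decide +kernel : ∀ a b : Mdl, (a = 1 ∨ a = mT ∨ a = mU ∨ a = mT * mU) →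
      (b = 1 ∨ b = mT ∨ b = mU ∨ b = mT * mU) →
        a * b = 1 ∨ a * b = mT ∨ a * b = mU ∨ a * b = mT * mU) a b ha hb
  inv_mem' {a} ha :=
    (by decide +kernel : ∀ a : Mdl, (a = 1 ∨ a = mT ∨ a = mU ∨ a = mT * mU) →
      a⁻¹ = 1 ∨ a⁻¹ = mT ∨ a⁻¹ = mU ∨ a⁻¹ = mT * mU) a ha

instance (m : Mdl) : Decidable (m ∈ mF) :=
  inferInstanceAs (Decidable (m = 1 ∨ m = mT ∨ m = mU ∨ m = mT * mU))

theorem mF_facts : Fintype.card {m : Mdl // m ∈ mF} = 2 ^ 2 ∧
    ∀ m : Mdl, m ∈ mF → m * mY * m⁻¹ = mY ∨ m * mY * m⁻¹ = mY⁻¹ := by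
  decide +kernel

theorem pow_val_add {M : Type*} [Monoid M] {n : ℕ} [NeZero n] {x : M} (hx : x ^ n = 1)
    (a b : ZMod n) : x ^ (a + b).val = x ^ a.val * x ^ b.val := by
  rw [← pow_add, ZMod.val_add, ← pow_eq_pow_mod _ hx]

/-- The character `k ↦ ζ₅ ^ k`. -/
noncomputable def eζ (k : ZMod 5) : ℂ := ζ₅ ^ k.val

theorem eζ_add (a b : ZMod 5) : eζ (a + b) = eζ a * eζ b := pow_val_add ζ₅_pow_five a b

theorem eζ_sum (x : ZMod 5) : ∑ m : ZMod 5, eζ (m * x) = if x = 0 then 5 else 0 := by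
  rcases eq_or_ne x 0 with rfl | hx
  · simp [eζ]
  rw [if_neg hx]
  have hb : Function.Bijective (fun m : ZMod 5 => m * x) :=
    Finite.injective_iff_bijective.1 fun a b hab => by
      haveI : Fact (Nat.Prime 5) := ⟨by norm_num⟩
      exact mul_right_cancel₀ hx hab
  rw [Fintype.sum_bijective _ hb _ eζ fun m => rfl]
  show ∑ i : Fin 5, ζ₅ ^ (i : ℕ) = 0
  simpa [Fin.sum_univ_five] using ζ₅_sum

namespace Setting

variable {G : Type u} [Group G] [Fintype G] [IsSimpleGroup G] (S : Setting G)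

/-- The exceptional character. -/
structure Deg15 (χ : IrrCharacter G) : Prop where
  card : Nat.card G = 189000
  hdeg : deg χ = 15
  n0 : S.n 0 χ = -1
  n1 : S.n 1 χ = 0
  n2 : S.n 2 χ = 0
  n3 : S.n 3 χ = 0
  fix : S.conjChar χ = χ

variable {S} {χ : IrrCharacter G}

/-- The element of order 5. -/
def y (S : Setting G) : G := S.phi mY

/-- The second involution. -/
def u (S : Setting G) : G := S.phi mU

theorem y_pow : S.y ^ 5 = 1 := by
  rw [y, ← map_pow, mU_facts.2.2.2.2.2.2.1, map_one]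

theorem y_ne_one : S.y ≠ 1 := fun h =>
  mU_facts.2.2.2.2.2.2.2.1 (S.inj (h.trans (map_one _).symm))

theorem Deg15.values (h : S.Deg15 χ) : ∀ i, S.v i χ = -1 := by
  obtain ⟨h0, h1, h2, h3⟩ := S.v_conjChar χ
  rw [h.fix] at h2
  have e0 := S.v_zero χ
  rw [h.n0, h.n1, h.n2, h.n3] at e0
  norm_num at e0
  have p := S.cast_n 0 χ
  have q := S.cast_n 3 χ
  rw [h.n0] at p
  rw [h.n3] at q
  simp [P, Fin.sum_univ_four, e0, h2] at p q
  have e3 : S.v 3 χ = -1 := by linear_combination (-5 / 4 : ℂ) * p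
  have e1 : S.v 1 χ = -1 := by linear_combination (-3 : ℂ) * q + (6 / 5 : ℂ) * e3
  intro i
  fin_cases i
  · exact e0
  · exact e1
  · exact h2.trans e3
  · exact e3

theorem Deg15.eq_one (h : S.Deg15 χ) {x : G} (hx : (χ : G → ℂ) x = 15) : x = 1 := by
  obtain ⟨d, ρ, hρ, hχ⟩ := χ.2
  have hd : (χ : G → ℂ) 1 = (d : ℂ) := by
    rw [← hχ, Representation.char_one, Module.finrank_fin_fun]
  have hd' : d = 15 := by
    have e := (deg_eq χ).symm.trans hd
    rw [h.hdeg] at e
    exact_mod_cast e.symm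
  have hker : ∀ g : G, (χ : G → ℂ) g = 15 → g ∈ ρ.ker := fun g hg => MonoidHom.mem_ker.2
    ((char_eq_finrank_iff ρ g).1 (by rw [Module.finrank_fin_fun, hχ, hg, hd']; norm_num))
  have hbot : ρ.ker = ⊥ :=
    (IsSimpleGroup.eq_bot_or_eq_top_of_normal ρ.ker inferInstance).resolve_right fun ht => by
      have h1 : ρ S.t = 1 := MonoidHom.mem_ker.1 (ht ▸ Subgroup.mem_top S.t)
      have h2 := (char_eq_finrank_iff ρ S.t).2 h1
      rw [Module.finrank_fin_fun, hχ, hd', ← g_zero] at h2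
      have := h.values 0
      rw [v, h2] at this
      norm_num at this
  have := hker x hx
  rwa [hbot, Subgroup.mem_bot] at this

theorem Deg15.pow_two (h : S.Deg15 χ) {x : G} (hx : x ^ 5 = 1) :
    (χ : G → ℂ) (x ^ 2) = (χ : G → ℂ) x := by
  have e : ((S.conjChar χ : IrrCharacter G) : G → ℂ) x = (χ : G → ℂ) x := by rw [h.fix]
  rw [← e]
  show _ = (χ : G → ℂ) (x ^ S.kk)
  have hk : S.kk % 30 = 7 := S.exists_kk.choose_spec.2
  rw [pow_eq_pow_mod S.kk hx, show S.kk % 5 = 2 by omega]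

theorem Deg15.pow_const (h : S.Deg15 χ) {x : G} (hx : x ^ 5 = 1) :
    ∀ k : Fin 5, k ≠ 0 → (χ : G → ℂ) (x ^ (k : ℕ)) = (χ : G → ℂ) x := by
  have p2 := h.pow_two hx
  have p4 : (χ : G → ℂ) (x ^ 4) = (χ : G → ℂ) x := by
    rw [show x ^ 4 = (x ^ 2) ^ 2 by rw [← pow_mul],
      h.pow_two (by rw [← pow_mul, mul_comm, pow_mul, hx, one_pow]), p2]
  have p3 : (χ : G → ℂ) (x ^ 3) = (χ : G → ℂ) x := by
    rw [show x ^ 3 = (x ^ 4) ^ 2 by
        rw [← pow_mul, show 4 * 2 = 5 + 3 by norm_num, pow_add, hx, one_mul],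
      h.pow_two (by rw [← pow_mul, mul_comm, pow_mul, hx, one_pow]), p4]
  intro k hk
  fin_cases k
  · exact absurd rfl hk
  · simp
  · exact p2
  · exact p3
  · exact p4

theorem Deg15.val_y (h : S.Deg15 χ) : (χ : G → ℂ) S.y = 5 := by
  classical
  set r := (χ : G → ℂ) S.y with hr
  let w : G := S.phi (mT * mY)
  have hw : w ^ 10 = 1 := by
    rw [← map_pow, show (mT * mY) ^ 10 = 1 by decide +kernel, map_one]
  let f : Multiplicative (ZMod 10) →* G :=
    MonoidHom.mk' (fun k => w ^ (Multiplicative.toAdd k).val) fun a b => pow_val_add hw _ _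
  have hu : ζu ^ 10 = 1 := by
    rw [show 10 = 5 * 2 by norm_num, pow_mul, ζu_pow, one_pow]
  let γ : Multiplicative (ZMod 10) →* ℂˣ :=
    MonoidHom.mk' (fun k => ζu ^ (Multiplicative.toAdd k).val) fun a b => pow_val_add hu _ _
  have hval : ∀ k : ZMod 10, (χ : G → ℂ) (f (Multiplicative.ofAdd k)) =
      if k = 0 then 15 else if k.val % 2 = 1 then -1 else r := by
    intro k
    show (χ : G → ℂ) (w ^ k.val) = _
    rcases five_facts.2.2.2.2 k with rfl | ⟨ho, i, m, hm⟩ | ⟨he, m, hm⟩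
    · rw [if_pos rfl, ZMod.val_zero, pow_zero, deg_eq, h.hdeg]; norm_num
    · rw [if_neg (fun e => by simp [e] at ho), if_pos ho, ← h.values i]
      exact classFunction_isConj (isClassFunction_of_isIrr χ.2) (isConj_iff.2 ⟨S.phi m, by
        rw [← map_pow, g, ← map_inv, ← map_mul, ← map_mul, hm]⟩)
    · have hk0 : k ≠ 0 := by
        rintro rfl
        simp only [ZMod.val_zero, pow_zero, mul_one, mul_inv_cancel] at hm
        rcases hm with e | e <;> exact absurd e (by decide +kernel)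
      rw [if_neg hk0, if_neg (by omega), hr]
      rcases hm with e | e
      · exact classFunction_isConj (isClassFunction_of_isIrr χ.2) (isConj_iff.2 ⟨S.phi m, by
          rw [← map_pow, y, ← map_inv, ← map_mul, ← map_mul, e]⟩)
      · rw [← h.pow_two y_pow]
        exact classFunction_isConj (isClassFunction_of_isIrr χ.2) (isConj_iff.2 ⟨S.phi m, by
          rw [← map_pow, y, ← map_pow, ← map_inv, ← map_mul, ← map_mul, e]⟩)
  have key : ∀ ψ : Multiplicative (ZMod 10) →* ℂˣ, ∃ m : ℕ,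
      ∑ k : ZMod 10, (if k = 0 then 15 else if k.val % 2 = 1 then -1 else r) *
        conj ((ψ (Multiplicative.ofAdd k) : ℂˣ) : ℂ) = 10 * (m : ℂ) := by
    intro ψ
    obtain ⟨m, hm⟩ := classInner_characters (isCharacter_comp f (isCharacter_of_isIrr χ.2))
      (isCharacter_of_isIrr (isIrr_linChar ψ))
    refine ⟨m, ?_⟩
    rw [Cfsg.classInner, inv_mul_eq_iff_eq_mul₀ natCard_ne_zero, Nat.card_eq_fintype_card,
      Fintype.card_multiplicative, ZMod.card] at hm
    push_cast at hm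
    rw [← hm, ← Equiv.sum_comp Multiplicative.ofAdd]
    simp only [hval]
  obtain ⟨m₁, h₁⟩ := key 1
  obtain ⟨m₂, h₂⟩ := key γ
  simp only [γ, MonoidHom.mk'_apply, toAdd_ofAdd, Units.val_pow_eq_pow_val, ζu_val, map_pow] at h₂
  simp only [MonoidHom.one_apply, Units.val_one, map_one, mul_one] at h₁
  have e1 : (15 : ℂ) + 4 * r - 5 = 10 * m₁ := by
    rw [← h₁]
    show _ = ∑ k : Fin 10,
      if k = 0 then (15 : ℂ) else if (k : ℕ) % 2 = 1 then -1 else r
    simp [Fin.sum_univ_succ]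
    ring
  have e2 : 15 - r = 10 * (m₂ : ℂ) := by
    rw [← h₂]
    show _ = ∑ k : Fin 10,
      (if k = 0 then (15 : ℂ) else if (k : ℕ) % 2 = 1 then -1 else r) * conj ζ₅ ^ (k : ℕ)
    have c5 : conj ζ₅ ^ 5 = 1 := by rw [← map_pow, ζ₅_pow_five, map_one]
    have cs : 1 + conj ζ₅ + conj ζ₅ ^ 2 + conj ζ₅ ^ 3 + conj ζ₅ ^ 4 = 0 := by
      have := congrArg (starRingEnd ℂ) ζ₅_sum
      simpa using this
    simp [Fin.sum_univ_succ]
    linear_combination (1 - r) * cs + ((1 : ℂ) - r * conj ζ₅ - r * conj ζ₅ ^ 3 +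
      conj ζ₅ ^ 2 + conj ζ₅ ^ 4) * c5
  have e3 : 4 * m₂ + m₁ = 7 := by
    have : (4 * m₂ + m₁ : ℂ) = (7 : ℕ) := by
      push_cast
      linear_combination (-4 / 10 : ℂ) * e2 - (1 / 10 : ℂ) * e1
    exact_mod_cast this
  rcases (by omega : m₂ = 0 ∨ m₂ = 1) with e | e <;> rw [e] at e2 <;> norm_num at e2
  · exact absurd (h.eq_one (show (χ : G → ℂ) S.y = 15 by linear_combination -e2)) y_ne_one
  · linear_combination -e2

/-- An element of order 5 centralising an involution has value 5. -/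
theorem Deg15.val_five (h : S.Deg15 χ) {s x : G} (hs : s * s = 1) (hs1 : s ≠ 1) (hx : x ^ 5 = 1)
    (hx1 : x ≠ 1) (hc : x * s = s * x) : (χ : G → ℂ) x = 5 := by
  obtain ⟨a, ha⟩ := isConj_iff.1 (S.isConj_t hs hs1)
  have hc' : a⁻¹ * x * a * S.t = S.t * (a⁻¹ * x * a) := by
    calc a⁻¹ * x * a * S.t = a⁻¹ * (x * (a * S.t * a⁻¹)) * a := by group
      _ = a⁻¹ * ((a * S.t * a⁻¹) * x) * a := by rw [ha, hc]
      _ = S.t * (a⁻¹ * x * a) := by group
  obtain ⟨l, hl⟩ := S.exists_pre hc'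
  have h5 : l ^ 5 = 1 := S.inj (by
    rw [map_pow, hl, map_one, show a⁻¹ * x * a = a⁻¹ * x * a⁻¹⁻¹ by rw [inv_inv], conj_pow, hx,
      mul_one, mul_inv_cancel])
  have h1 : l ≠ 1 := fun e => hx1 (by
    rw [e, map_one] at hl
    calc x = a * (a⁻¹ * x * a) * a⁻¹ := by group
      _ = 1 := by rw [← hl, mul_one, mul_inv_cancel])
  obtain ⟨m, hm⟩ := five_class l h5 h1
  have hconj : IsConj x (S.phi l) := isConj_iff.2 ⟨a⁻¹, by rw [hl, inv_inv]⟩
  rw [classFunction_isConj (isClassFunction_of_isIrr χ.2) hconj]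
  rcases hm with e | e
  · rw [classFunction_isConj (isClassFunction_of_isIrr χ.2) (isConj_iff.2 ⟨S.phi m, by
      rw [← map_inv, ← map_mul, ← map_mul, e]; rfl⟩ : IsConj (S.phi l) S.y)]
    exact h.val_y
  · rw [classFunction_isConj (isClassFunction_of_isIrr χ.2) (isConj_iff.2 ⟨S.phi m, by
      rw [← map_inv, ← map_mul, ← map_mul, e, map_pow]; rfl⟩ : IsConj (S.phi l) (S.y ^ 2)),
      h.pow_two y_pow]
    exact h.val_y

theorem Deg15.card_sylow5 (h : S.Deg15 χ) (P : Sylow 5 G) :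
    Nat.card (P : Subgroup G) = 5 ^ 3 := by
  haveI : Fact (Nat.Prime 5) := ⟨by norm_num⟩
  obtain ⟨e, he⟩ := IsPGroup.iff_card.1 P.isPGroup'
  have hd := Subgroup.card_subgroup_dvd_card (P : Subgroup G)
  have h2 := P.not_dvd_index
  have h3 := Subgroup.card_mul_index (P : Subgroup G)
  rw [he, h.card] at hd h3
  rw [he]
  have he' : e ≤ 3 := by
    by_contra hc
    have : 5 ^ 4 ∣ 189000 := (Nat.pow_dvd_pow 5 (by omega)).trans hd
    norm_num at this
  interval_cases e
  · exact absurd ⟨37800, by omega⟩ h2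
  · exact absurd ⟨7560, by omega⟩ h2
  · exact absurd ⟨1512, by omega⟩ h2
  · rfl

/-- The Sylow 5-subgroups are abelian. -/
theorem Deg15.comm5 (h : S.Deg15 χ) (P : Sylow 5 G) :
    ∀ a b : (P : Subgroup G), a * b = b * a := by
  classical
  haveI : Fact (Nat.Prime 5) := ⟨by norm_num⟩
  by_contra hne
  push Not at hne
  obtain ⟨g₀, b₀, hgb⟩ := hne
  let Q : Subgroup G := (P : Subgroup G)
  let Z : Subgroup Q := Subgroup.center Q
  have hQ : Nat.card Q = 5 ^ 3 := h.card_sylow5 P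
  obtain ⟨e, he, hZ⟩ := IsPGroup.card_center_eq_prime_pow hQ (by norm_num)
  have hmul : Nat.card Z * Z.index = 5 ^ 3 := hQ ▸ Subgroup.card_mul_index Z
  have hZ5 : Nat.card Z = 5 := by
    have hcyc : ∀ _ : Z.index ∣ 5, False := fun hi => by
      haveI : IsCyclic (Q ⧸ Z) := isCyclic_of_card_dvd_prime (p := 5) hi
      haveI := isMulCommutative_of_isCyclic_quotient_center_self Q
      exact hgb (mul_comm' g₀ b₀)
    have he3 : e ≤ 3 := by
      by_contra hc
      have h4 : 5 ^ 4 ∣ 5 ^ 3 :=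
        (Nat.pow_dvd_pow 5 (by omega : 4 ≤ e)).trans (hZ ▸ Dvd.intro _ hmul)
      norm_num at h4
    rw [hZ] at hmul ⊢
    interval_cases e
    · rfl
    · exact (hcyc ⟨1, by omega⟩).elim
    · exact (hcyc (by rw [show Z.index = 1 by omega]; exact one_dvd _)).elim
  have hquot : Nat.card (Q ⧸ Z) = 5 ^ 2 := by
    rw [hZ5] at hmul
    show Z.index = _
    omega
  have hcomm : ∀ a b : Q, a * b * a⁻¹ * b⁻¹ ∈ Z := fun a b => by
    rw [← QuotientGroup.eq_one_iff]
    letI := IsPGroup.commGroupOfCardEqPrimeSq hquot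
    simp only [QuotientGroup.mk_mul, QuotientGroup.mk_inv]
    rw [mul_comm (a : Q ⧸ Z) (b : Q ⧸ Z)]
    group
  -- the abelian subgroup of order 25
  let A : Subgroup Q := Subgroup.centralizer {g₀}
  have hgA : g₀ ∈ A := Subgroup.mem_centralizer_singleton_iff.2 rfl
  have hZA : Z ≤ A := fun z hz =>
    Subgroup.mem_centralizer_singleton_iff.2 (Subgroup.mem_center_iff.1 hz g₀).symm
  have hg0 : g₀ ∉ Z := fun hz => hgb (Subgroup.mem_center_iff.1 hz b₀).symm
  have hA : Nat.card A = 5 ^ 2 := by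
    obtain ⟨j, hj⟩ := IsPGroup.iff_card.1 ((IsPGroup.of_card hQ).to_subgroup A)
    have hd := Subgroup.card_subgroup_dvd_card A
    rw [hQ, hj] at hd
    have hj3 : j ≤ 3 := (Nat.pow_dvd_pow_iff_le_right (by norm_num)).1 hd
    have hj2 : j ≠ 3 := fun e3 => hgb (by
      have : A = ⊤ := Subgroup.eq_top_of_card_eq A (by rw [hj, e3, hQ])
      exact (Subgroup.mem_centralizer_singleton_iff.1 (this ▸ Subgroup.mem_top b₀ : b₀ ∈ A)).symm)
    have hlt : 5 < Nat.card A := by
      rw [← hZ5]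
      refine lt_of_le_of_ne (Nat.le_of_dvd Nat.card_pos (Subgroup.card_dvd_of_le hZA)) fun e => ?_
      exact hg0 ((Subgroup.eq_of_le_of_card_ge hZA e.ge).symm ▸ hgA)
    rw [hj] at hlt ⊢
    interval_cases j <;> norm_num at *
  letI : CommGroup A := IsPGroup.commGroupOfCardEqPrimeSq hA
  -- a generator of the centre
  haveI : IsCyclic Z := isCyclic_of_prime_card (p := 5) hZ5
  obtain ⟨z, hz⟩ := IsCyclic.exists_generator (α := Z)
  have hz5 : z ^ 5 = 1 := hZ5 ▸ pow_card_eq_one'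
  have hordz : orderOf z = 5 := (orderOf_eq_card_of_forall_mem_zpowers hz).trans hZ5
  have hzne : z ≠ 1 := fun e => by rw [e, orderOf_one] at hordz; omega
  let zA : A := ⟨(z : Q), hZA z.2⟩
  have hzA : zA ≠ 1 := fun e => hzne (Subtype.ext (congrArg (fun a : A => (a : Q)) e))
  haveI : NeZero (Monoid.exponent A) := ⟨Monoid.exponent_ne_zero_of_finite⟩
  haveI : NeZero (Monoid.exponent A : ℂ) := ⟨Nat.cast_ne_zero.2 Monoid.exponent_ne_zero_of_finite⟩
  obtain ⟨γ, hγ⟩ := CommGroup.exists_apply_ne_one_of_hasEnoughRootsOfUnity A ℂ hzA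
  let F : A → G := fun a => ((a : Q) : G)
  let f : A →* G := Q.subtype.comp A.subtype
  let zG : G := f zA
  set r := (χ : G → ℂ) zG with hr
  have hzA5 : zA ^ 5 = 1 := Subtype.ext (by
    have := congrArg (fun q : Z => (q : Q)) hz5
    exact this)
  have hzG5 : zG ^ 5 = 1 := by rw [← map_pow, hzA5, map_one]
  have hpow : ∀ k : Fin 5, (χ : G → ℂ) (f (zA ^ (k : ℕ))) = if k = 0 then 15 else r := by
    intro k
    rw [map_pow]
    split_ifs with hk
    · subst hk
      rw [Fin.val_zero, pow_zero, deg_eq, h.hdeg]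
      norm_num
    · exact h.pow_const hzG5 k hk
  -- translation invariance off the centre
  have hinvar : ∀ a : A, (a : Q) ∉ Z → (χ : G → ℂ) (f (a * zA)) = (χ : G → ℂ) (f a) := by
    intro a ha
    obtain ⟨b, hb⟩ : ∃ b : Q, b * (a : Q) ≠ (a : Q) * b := by
      by_contra hc
      push Not at hc
      exact ha (Subgroup.mem_center_iff.2 hc)
    let c : Z := ⟨b * (a : Q) * b⁻¹ * (a : Q)⁻¹, hcomm b a⟩
    have hc1 : c ≠ 1 := fun e => hb (by
      have e' : b * (a : Q) * b⁻¹ * (a : Q)⁻¹ = 1 := congrArg Subtype.val e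
      exact mul_inv_eq_iff_eq_mul.1 (mul_inv_eq_one.1 e'))
    have hgen : Subgroup.zpowers c = ⊤ := zpowers_eq_top_of_prime_card hZ5 hc1
    obtain ⟨k, hk⟩ := Subgroup.mem_zpowers_iff.1 (hgen.symm ▸ Subgroup.mem_top z)
    have hconj : b ^ k * (a : Q) * (b ^ k)⁻¹ = ((c ^ k : Z) : Q) * (a : Q) := by
      have step : ∀ i : ℕ, b ^ i * (a : Q) * (b ^ i)⁻¹ = ((c : Q)) ^ i * (a : Q) := by
        intro i
        induction i with
        | zero => simp
        | succ i ih =>
          have hbc : b * (c : Q) ^ i = (c : Q) ^ i * b :=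
            Subgroup.mem_center_iff.1 (Subgroup.pow_mem _ c.2 i) b
          calc b ^ (i + 1) * (a : Q) * (b ^ (i + 1))⁻¹
              = b * (b ^ i * (a : Q) * (b ^ i)⁻¹) * b⁻¹ := by rw [pow_succ']; group
            _ = b * (c : Q) ^ i * (a : Q) * b⁻¹ := by rw [ih]; group
            _ = (c : Q) ^ i * (b * (a : Q) * b⁻¹) := by rw [hbc]; group
            _ = (c : Q) ^ i * ((c : Q) * (a : Q)) := by
                rw [show (c : Q) = b * (a : Q) * b⁻¹ * (a : Q)⁻¹ from rfl]; group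
            _ = (c : Q) ^ (i + 1) * (a : Q) := by rw [pow_succ]; group
      rw [SubgroupClass.coe_zpow]
      obtain ⟨i, rfl | rfl⟩ := Int.eq_nat_or_neg k
      · simpa only [zpow_natCast] using step i
      · rw [zpow_neg, zpow_natCast, zpow_neg, zpow_natCast, inv_inv, eq_inv_mul_iff_mul_eq]
        have e := step i
        have hci : b ^ i * ((c : Q) ^ i)⁻¹ = ((c : Q) ^ i)⁻¹ * b ^ i :=
          Subgroup.mem_center_iff.1 (Subgroup.inv_mem _ (Subgroup.pow_mem _ c.2 i)) _
        calc (c : Q) ^ i * ((b ^ i)⁻¹ * (a : Q) * b ^ i)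
            = (b ^ i)⁻¹ * ((c : Q) ^ i * (a : Q)) * b ^ i := by
              have hci' : (c : Q) ^ i * (b ^ i)⁻¹ = (b ^ i)⁻¹ * (c : Q) ^ i :=
                (Subgroup.mem_center_iff.1 (Subgroup.pow_mem _ c.2 i) _).symm
              rw [← mul_assoc, ← mul_assoc, hci']; group
          _ = (b ^ i)⁻¹ * (b ^ i * (a : Q) * (b ^ i)⁻¹) * b ^ i := by rw [e]
          _ = (a : Q) := by group
    rw [hk] at hconj
    refine (classFunction_isConj (isClassFunction_of_isIrr χ.2)
      (isConj_iff.2 ⟨((b ^ k : Q) : G), ?_⟩)).symm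
    have h2 := congrArg (fun q : Q => (q : G)) hconj
    simp only [Subgroup.coe_mul, Subgroup.coe_inv] at h2
    rw [mul_comm a zA, map_mul]
    exact h2
  -- the three counts
  have hin : ∀ a : A, (a : Q) ∈ Z ↔ ∃ k : Fin 5, zA ^ (k : ℕ) = a := by
    intro a
    constructor
    · intro ha
      have hmem := hz ⟨(a : Q), ha⟩
      rw [Subgroup.mem_zpowers_iff] at hmem
      obtain ⟨k, hk⟩ := hmem
      refine ⟨⟨(k % 5).toNat, by omega⟩, Subtype.ext ?_⟩
      have hk' : z ^ (k % 5).toNat = (⟨(a : Q), ha⟩ : Z) := by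
        rw [← hk, ← zpow_natCast, Int.toNat_of_nonneg (by omega),
          zpow_eq_zpow_iff_modEq, hordz]
        exact Int.mod_modEq _ _
      have := congrArg (fun q : Z => (q : Q)) hk'
      exact this
    · rintro ⟨k, rfl⟩
      exact Subgroup.pow_mem _ z.2 _
  let W : Finset A := Finset.univ.filter fun a => (a : Q) ∈ Z
  have hW : ∀ H : A → ℂ, ∑ a ∈ W, H a = ∑ k : Fin 5, H (zA ^ (k : ℕ)) := by
    intro H
    have horder : orderOf zA = 5 := orderOf_eq_prime hzA5 hzA
    rw [show W = Finset.univ.image fun k : Fin 5 => zA ^ (k : ℕ) by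
      ext a; simp [W, hin]]
    refine Finset.sum_image fun i _ j _ hij => Fin.ext ?_
    have := pow_inj_mod.1 hij
    rw [horder] at this
    omega
  obtain ⟨m, hm⟩ := classInner_characters (isCharacter_comp f (isCharacter_of_isIrr χ.2))
    (isCharacter_of_isIrr (isIrr_linChar γ))
  rw [Cfsg.classInner, inv_mul_eq_iff_eq_mul₀ natCard_ne_zero, hA,
    ← Finset.sum_filter_add_sum_filter_not _ (fun a : A => (a : Q) ∈ Z), hW] at hm
  set ω := conj ((γ zA : ℂˣ) : ℂ) with hω
  have hω1 : ω ≠ 1 := fun e => hγ (Units.ext (by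
    simpa [hω] using congrArg (starRingEnd ℂ) e))
  have hω5 : ω ^ 5 = 1 := by
    rw [hω, ← map_pow, ← Units.val_pow_eq_pow_val, ← map_pow γ, hzA5, map_one, Units.val_one,
      map_one]
  have hωs : 1 + ω + ω ^ 2 + ω ^ 3 + ω ^ 4 = 0 := by
    refine (mul_eq_zero.1 ?_).resolve_left (sub_ne_zero.2 hω1)
    linear_combination hω5
  have hoff : ∑ a ∈ Finset.univ.filter (fun a : A => (a : Q) ∉ Z),
      (χ : G → ℂ) (f a) * conj ((γ a : ℂˣ) : ℂ) = 0 := by
    set T := ∑ a ∈ Finset.univ.filter (fun a : A => (a : Q) ∉ Z),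
      (χ : G → ℂ) (f a) * conj ((γ a : ℂˣ) : ℂ) with hT
    have : ω * T = T := by
      rw [hT, Finset.mul_sum]
      refine Finset.sum_bij (fun a _ => a * zA) ?_ ?_ ?_ ?_
      · intro a ha
        simp only [Finset.mem_filter, Finset.mem_univ, true_and] at ha ⊢
        exact fun hm' => ha (by
          have := Subgroup.mul_mem _ hm' (Subgroup.inv_mem _ z.2)
          rwa [show ((a * zA : A) : Q) * ((z : Q))⁻¹ = (a : Q) from mul_inv_cancel_right _ _]
            at this)
      · intro a _ b _ e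
        exact mul_right_cancel e
      · intro b hb
        refine ⟨b * zA⁻¹, ?_, by rw [inv_mul_cancel_right]⟩
        simp only [Finset.mem_filter, Finset.mem_univ, true_and] at hb ⊢
        exact fun hm' => hb (by
          have := Subgroup.mul_mem _ hm' z.2
          rwa [show ((b * zA⁻¹ : A) : Q) * (z : Q) = (b : Q) from inv_mul_cancel_right _ _] at this)
      · intro a ha
        rw [hinvar a (Finset.mem_filter.1 ha).2, map_mul, Units.val_mul, map_mul, ← hω]
        ring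
    exact (mul_eq_zero.1 (show (ω - 1) * T = 0 by linear_combination this)).resolve_left
      (sub_ne_zero.2 hω1)
  rw [hoff, add_zero] at hm
  simp only [hpow] at hm
  simp only [map_pow, Units.val_pow_eq_pow_val, ← hω, Fin.sum_univ_five] at hm
  norm_num [Fin.ext_iff] at hm
  -- the multiplicity of the trivial character on the centre
  let fz : Multiplicative (ZMod 5) →* G :=
    MonoidHom.mk' (fun k => zG ^ (Multiplicative.toAdd k).val) fun a b => pow_val_add hzG5 _ _
  obtain ⟨m₀, hm₀⟩ := classInner_characters (isCharacter_comp fz (isCharacter_of_isIrr χ.2))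
    (isCharacter_of_isIrr (isIrr_one (G := Multiplicative (ZMod 5))))
  rw [Cfsg.classInner, inv_mul_eq_iff_eq_mul₀ natCard_ne_zero, Nat.card_eq_fintype_card,
    Fintype.card_multiplicative, ZMod.card, ← Equiv.sum_comp Multiplicative.ofAdd] at hm₀
  have hs0 : ∑ k : Fin 5, (χ : G → ℂ) (zG ^ (k : ℕ)) = 5 * (m₀ : ℂ) := by
    simp [fz] at hm₀
    exact hm₀
  simp only [← map_pow f, zG, hpow, Fin.sum_univ_five] at hs0
  norm_num [Fin.ext_iff] at hs0
  have e : 4 * 25 * m + 5 * m₀ = 75 := by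
    have : (4 * 25 * m + 5 * m₀ : ℂ) = (75 : ℕ) := by
      push_cast
      linear_combination (-4 : ℂ) * hm - hs0 + 4 * r * hωs
    exact_mod_cast this
  have hm0 : m₀ = 15 := by omega
  rw [hm0] at hs0
  push_cast at hs0
  have : zG = 1 := h.eq_one (show (χ : G → ℂ) zG = 15 by linear_combination hs0 / 4)
  exact hzA (Subtype.ext (Subtype.ext this))

theorem Deg15.exists_fixed_sylow (h : S.Deg15 χ) :
    ∃ P : Sylow 5 G, S.y ∈ (P : Subgroup G) ∧
      ∀ m ∈ mF, ∀ x ∈ (P : Subgroup G), S.phi m * x * (S.phi m)⁻¹ ∈ (P : Subgroup G) := by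
  classical
  haveI : Fact (Nat.Prime 5) := ⟨by norm_num⟩
  haveI : Fact (Nat.Prime 2) := ⟨Nat.prime_two⟩
  let W : Subgroup G := Subgroup.centralizer {S.y}
  have hyW : S.y ∈ W := Subgroup.mem_centralizer_singleton_iff.2 rfl
  have hPW : ∀ P : Sylow 5 G, S.y ∈ (P : Subgroup G) → (P : Subgroup G) ≤ W := fun P hy x hx =>
    Subgroup.mem_centralizer_singleton_iff.2 (congrArg Subtype.val (h.comm5 P ⟨x, hx⟩ ⟨_, hy⟩))
  have hty : S.t * S.y = S.y * S.t := (S.comm_t mY).symm
  let tW : W := ⟨S.t, Subgroup.mem_centralizer_singleton_iff.2 hty⟩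
  have htW : tW * tW = 1 := Subtype.ext S.t_mul_t
  have htW1 : tW ≠ 1 := fun e => S.t_ne_one (congrArg Subtype.val e)
  have hoT : orderOf tW = 2 := orderOf_eq_prime (by rw [_root_.pow_two, htW]) htW1
  -- a Sylow 2-subgroup of order 2
  obtain ⟨Q, hQ⟩ := (IsPGroup.of_card (p := 2) (n := 1) (G := Subgroup.zpowers tW)
    (by rw [Nat.card_zpowers, hoT, pow_one])).exists_le_sylow
  have hQ' : (Q : Subgroup W) = Subgroup.zpowers tW := by
    refine le_antisymm (fun x hx => ?_) hQ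
    obtain ⟨R, hR⟩ := (Q.isPGroup'.map W.subtype).exists_le_sylow
    obtain ⟨a, ha⟩ := MulAction.exists_smul_eq G S.P₀ R
    have hR2 : ∀ p ∈ (R : Subgroup G), p * p = 1 := by
      intro p hp
      rw [← ha, Sylow.smul_def, Sylow.pointwise_smul_def] at hp
      obtain ⟨q, hq, rfl⟩ := hp
      show a * q * a⁻¹ * (a * q * a⁻¹) = 1
      rw [conj_mul, S.sq_P₀ hq, mul_one, mul_inv_cancel]
    have hxR : (x : G) ∈ (R : Subgroup G) := hR ⟨x, hx, rfl⟩
    have htR : S.t ∈ (R : Subgroup G) := hR ⟨tW, hQ (Subgroup.mem_zpowers tW), rfl⟩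
    have hcomm : (x : G) * S.t = S.t * (x : G) := by
      have e := inv_eq_of_mul_eq_one_right (hR2 _ (Subgroup.mul_mem _ hxR htR))
      rw [← e, mul_inv_rev, inv_eq_of_mul_eq_one_right (hR2 _ hxR),
        inv_eq_of_mul_eq_one_right (hR2 _ htR)]
    obtain ⟨m, hm⟩ := S.exists_pre hcomm
    have hmy : m * mY = mY * m := S.inj (by
      rw [map_mul, map_mul, hm]
      exact Subgroup.mem_centralizer_singleton_iff.1 x.2)
    have hmm : m * m = 1 := S.inj (by rw [map_mul, hm, map_one]; exact hR2 _ hxR)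
    rcases five_facts.1 m hmy hmm with rfl | rfl
    · rw [map_one] at hm
      rw [show x = 1 from Subtype.ext hm.symm]
      exact Subgroup.one_mem _
    · rw [S.phi_T] at hm
      rw [show x = tW from Subtype.ext hm.symm]
      exact Subgroup.mem_zpowers _
  have hQ2 : Nat.card (Q : Subgroup W) = 2 := by
    rw [hQ', Nat.card_zpowers, hoT]
  have heven : 2 ∣ Nat.card W := hQ2 ▸ Subgroup.card_subgroup_dvd_card _
  have hcyc : IsCyclic (Q : Subgroup W) := isCyclic_of_prime_card (p := 2) hQ2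
  have hmin : (Nat.card W).minFac = 2 := Nat.minFac_eq_two_iff _ |>.2 heven
  let τ := MonoidHom.transferSylow Q (hcyc.normalizer_le_centralizer hmin)
  have hK : τ.ker.IsComplement' Q := hcyc.isComplement' hmin
  have hKcard : Nat.card τ.ker * 2 = Nat.card W := by
    have e := hK.card_mul_card; rw [hQ2] at e; exact e
  have hKodd : ¬ 2 ∣ Nat.card τ.ker := by
    have hi := Subgroup.card_mul_index (Q : Subgroup W)
    rw [hQ2] at hi
    rw [show Nat.card τ.ker = (Q : Subgroup W).index by omega]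
    exact Q.not_dvd_index
  have hoddker : ∀ x : W, ¬ 2 ∣ orderOf x → x ∈ τ.ker := by
    intro x hx
    rw [MonoidHom.mem_ker, ← orderOf_eq_one_iff]
    have h1 : orderOf (τ x) ∣ 2 := (orderOf_dvd_natCard _).trans hQ2.dvd
    rcases (Nat.dvd_prime Nat.prime_two).1 h1 with e | e
    · exact e
    · exact absurd (by have := orderOf_map_dvd τ x; rw [e] at this; exact this) hx
  -- the number of Sylow 5-subgroups of the centraliser is odd
  have hodd : ¬ 2 ∣ Nat.card (Sylow 5 W) := by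
    obtain ⟨P⟩ : Nonempty (Sylow 5 W) := inferInstance
    have hPK : (P : Subgroup W) ≤ τ.ker := fun x hx => hoddker x fun h2 => by
      have h2' : 2 ∣ Nat.card (P : Subgroup W) := by
        have := orderOf_dvd_natCard (⟨x, hx⟩ : (P : Subgroup W))
        rw [← Subgroup.orderOf_coe] at this
        exact h2.trans this
      obtain ⟨j, hj⟩ := IsPGroup.iff_card.1 P.isPGroup'
      rw [hj] at h2'
      exact absurd (Nat.prime_two.dvd_of_dvd_pow h2') (by norm_num)
    rw [Sylow.card_eq_index_normalizer P]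
    intro h2
    have hN : Subgroup.normalizer ((P : Subgroup W) : Set W) ≤ τ.ker := fun x hx => hoddker x fun h' => by
      have h'' : 2 ∣ Nat.card (Subgroup.normalizer ((P : Subgroup W) : Set W)) := by
        have := orderOf_dvd_natCard (⟨x, hx⟩ : Subgroup.normalizer ((P : Subgroup W) : Set W))
        rw [← Subgroup.orderOf_coe] at this
        exact h'.trans this
      have h4 : 2 * 2 ∣ Nat.card W := by
        rw [← Subgroup.card_mul_index (Subgroup.normalizer ((P : Subgroup W) : Set W))]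
        exact Nat.mul_dvd_mul h'' h2
      rw [← hKcard] at h4
      exact hKodd (Nat.dvd_of_mul_dvd_mul_right (by norm_num) h4)
    have htop : (τ.ker : Subgroup W) = ⊤ := by
      rw [← Sylow.normalizer_sup_eq_top' P hPK]
      exact (sup_eq_right.2 hN).symm
    rw [htop, Subgroup.card_top] at hKcard
    have := Nat.card_pos (α := W)
    omega
  -- an initial Sylow subgroup
  obtain ⟨P₁, hP₁⟩ := (IsPGroup.of_card (p := 5) (n := 1) (G := Subgroup.zpowers S.y)
    (by rw [Nat.card_zpowers, orderOf_eq_prime y_pow y_ne_one, pow_one])).exists_le_sylow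
  have hy1 : S.y ∈ (P₁ : Subgroup G) := hP₁ (Subgroup.mem_zpowers _)
  let Ω := {P : Sylow 5 G // S.y ∈ (P : Subgroup G)}
  have e : Ω ≃ Sylow 5 W := by
    refine Equiv.ofBijective (fun P => P.1.subtype (hPW P.1 P.2)) ⟨fun P P' hPP => Subtype.ext
      (Sylow.subtype_injective hPP), fun R => ?_⟩
    obtain ⟨w, hw⟩ := MulAction.exists_smul_eq W (P₁.subtype (hPW P₁ hy1)) R
    refine ⟨⟨(w : G) • P₁, ?_⟩, ?_⟩
    · rw [Sylow.smul_def, Sylow.pointwise_smul_def]
      refine ⟨S.y, hy1, ?_⟩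
      exact mul_inv_eq_iff_eq_mul.2 (Subgroup.mem_centralizer_singleton_iff.1 w.2)
    · rw [← hw]
      exact (Sylow.smul_subtype _ w).symm
  let V : Subgroup G := mF.map S.phi
  have hV : IsPGroup 2 V := IsPGroup.of_card (n := 2) (by
    rw [Subgroup.card_map_of_injective S.inj, Nat.card_eq_fintype_card]
    exact mF_facts.1)
  let O : SubMulAction V (Sylow 5 G) :=
    { carrier := {P | S.y ∈ (P : Subgroup G)}
      smul_mem' := by
        rintro ⟨-, m, hm, rfl⟩ P (hP : S.y ∈ (P : Subgroup G))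
        show S.y ∈ ((S.phi m • P : Sylow 5 G) : Subgroup G)
        rw [Sylow.smul_def, Sylow.pointwise_smul_def]
        rcases mF_facts.2 m hm with h' | h'
        · refine ⟨S.y, hP, ?_⟩
          show S.phi m * S.phi mY * (S.phi m)⁻¹ = S.phi mY
          rw [← map_inv, ← map_mul, ← map_mul, h']
        · refine ⟨S.y⁻¹, Subgroup.inv_mem _ hP, ?_⟩
          show S.phi m * (S.phi mY)⁻¹ * (S.phi m)⁻¹ = S.phi mY
          rw [← map_inv S.phi m, ← map_inv, ← map_mul, ← map_mul,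
            show m * mY⁻¹ * m⁻¹ = (m * mY * m⁻¹)⁻¹ by group, h', inv_inv] }
  have hcard : ¬ 2 ∣ Nat.card O := by
    rw [show Nat.card O = Nat.card (Sylow 5 W) from Nat.card_congr e]
    exact hodd
  obtain ⟨⟨P, hP⟩, hfix⟩ := hV.nonempty_fixed_point_of_prime_not_dvd_card O hcard
  refine ⟨P, hP, fun m hm x hx => ?_⟩
  have hPfix : S.phi m • P = P := congrArg Subtype.val (hfix ⟨S.phi m, m, hm, rfl⟩)
  rw [← hPfix, Sylow.smul_def, Sylow.pointwise_smul_def]
  exact ⟨x, hx, rfl⟩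

/-- Two further lines, inverted by the first involution. -/
theorem Deg15.exists_lines (h : S.Deg15 χ) :
    ∃ w w' : G, w ^ 5 = 1 ∧ w ≠ 1 ∧ w' ^ 5 = 1 ∧ w' ≠ 1 ∧
      S.y * w = w * S.y ∧ S.y * w' = w' * S.y ∧ w * w' = w' * w ∧
      S.t * w * S.t⁻¹ = w⁻¹ ∧ S.t * w' * S.t⁻¹ = w'⁻¹ ∧
      S.u * w * S.u⁻¹ = w ∧ S.u * w' * S.u⁻¹ = w'⁻¹ := by
  classical
  haveI : Fact (Nat.Prime 5) := ⟨by norm_num⟩
  obtain ⟨P, hyP, hnorm⟩ := h.exists_fixed_sylow
  let Q : Subgroup G := (P : Subgroup G)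
  have hQ : Nat.card Q = 5 ^ 3 := h.card_sylow5 P
  have hc : ∀ a b : G, a ∈ Q → b ∈ Q → a * b = b * a := fun a b ha hb =>
    congrArg Subtype.val (h.comm5 P ⟨a, ha⟩ ⟨b, hb⟩)
  have hu2 : S.u * S.u = 1 := by rw [u, ← map_mul, mU_facts.1, map_one]
  have hu1 : S.u ≠ 1 := fun e => mU_facts.2.1 (S.inj (e.trans (map_one _).symm))
  have htu : S.t * S.u = S.u * S.t := (S.comm_t mU).symm
  have htu2 : (S.t * S.u) * (S.t * S.u) = 1 := by
    rw [u, ← S.phi_T, ← map_mul, ← map_mul, mU_facts.2.2.2.1, map_one]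
  have htu1 : S.t * S.u ≠ 1 := fun e => mU_facts.2.2.1 (S.inj (by
    rw [map_mul, S.phi_T, map_one]; exact e))
  have it : S.t⁻¹ = S.t := inv_eq_of_mul_eq_one_right S.t_mul_t
  have iu : S.u⁻¹ = S.u := inv_eq_of_mul_eq_one_right hu2
  have iv : (S.t * S.u)⁻¹ = S.t * S.u := inv_eq_of_mul_eq_one_right htu2
  let C : G → Subgroup G := fun s => Q ⊓ Subgroup.centralizer {s}
  have hC : ∀ s : G, s * s = 1 → s ≠ 1 → Nat.card (C s) ∣ 5 := by
    intro s hs hs1
    obtain ⟨a, ha⟩ := isConj_iff.1 (S.isConj_t hs hs1)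
    have h1 : Nat.card (C s) ∣ 125 := by
      have := Subgroup.card_dvd_of_le (inf_le_left : C s ≤ Q)
      rwa [hQ] at this
    have h2 : Nat.card (C s) ∣ 120 := by
      have hle : (C s).map (MulAut.conj a⁻¹).toMonoidHom ≤ S.phi.range := by
        rintro _ ⟨x, hx, rfl⟩
        rw [S.range, Subgroup.mem_centralizer_singleton_iff]
        have hx2 : x * s = s * x := Subgroup.mem_centralizer_singleton_iff.1 hx.2
        show a⁻¹ * x * a⁻¹⁻¹ * S.t = S.t * (a⁻¹ * x * a⁻¹⁻¹)
        calc a⁻¹ * x * a⁻¹⁻¹ * S.t = a⁻¹ * (x * (a * S.t * a⁻¹)) * a := by group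
          _ = a⁻¹ * ((a * S.t * a⁻¹) * x) * a := by rw [ha, hx2]
          _ = S.t * (a⁻¹ * x * a⁻¹⁻¹) := by group
      have := Subgroup.card_dvd_of_le hle
      rwa [Subgroup.card_map_of_injective (MulAut.conj a⁻¹).injective,
        Nat.card_congr (MonoidHom.ofInjective S.inj).symm.toEquiv,
        Nat.card_eq_fintype_card (α := Mdl), card_mdl] at this
    exact (Nat.dvd_gcd h1 h2).trans (by norm_num)
  have hpow : ∀ s : G, s * s = 1 → s ≠ 1 → ∀ x ∈ C s, x ^ 5 = 1 := fun s hs hs1 x hx =>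
    orderOf_dvd_iff_pow_eq_one.1 ((Subgroup.orderOf_coe (⟨x, hx⟩ : C s)) ▸
      (orderOf_dvd_natCard _).trans (hC s hs hs1))
  have memC : ∀ s x, x ∈ Q → s * x * s⁻¹ = x → x ∈ C s := fun s x hx hf =>
    ⟨hx, Subgroup.mem_centralizer_singleton_iff.2 (mul_inv_eq_iff_eq_mul.1 hf).symm⟩
  have hnorm' : ∀ s, s = S.t ∨ s = S.u ∨ s = S.t * S.u → ∀ x ∈ Q, s * x * s⁻¹ ∈ Q := by
    rintro s (rfl | rfl | rfl) x hx
    · rw [← S.phi_T]; exact hnorm mT (Or.inr (Or.inl rfl)) x hx
    · exact hnorm mU (Or.inr (Or.inr (Or.inl rfl))) x hx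
    · rw [u, ← S.phi_T, ← map_mul]; exact hnorm _ (Or.inr (Or.inr (Or.inr rfl))) x hx
  have hone : ∀ x, x ∈ C S.t → x ∈ C S.u → x = 1 := by
    intro x hxt hxu
    obtain ⟨m, rfl⟩ := S.exists_pre (Subgroup.mem_centralizer_singleton_iff.1 hxt.2)
    have h5 : m ^ 5 = 1 := S.inj (by
      rw [map_pow, map_one]; exact hpow _ S.t_mul_t S.t_ne_one _ hxt)
    have hU : m * mU = mU * m := S.inj (by
      rw [map_mul, map_mul]; exact Subgroup.mem_centralizer_singleton_iff.1 hxu.2)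
    rw [five_facts.2.1 m h5 hU, map_one]
  let cj : G → G → G := fun s x => s * x * s⁻¹
  have cjmul : ∀ s a b, cj s (a * b) = cj s a * cj s b := fun s a b => by
    simp only [cj]; group
  have cjcj : ∀ s x, s * s = 1 → cj s (cj s x) = x := fun s x hs => by
    simp only [cj]
    rw [show s * (s * x * s⁻¹) * s⁻¹ = (s * s) * x * (s * s)⁻¹ by group, hs]
    simp
  have cjtu : ∀ x, cj S.t (cj S.u x) = cj (S.t * S.u) x := fun x => by simp only [cj]; group
  have cjut : ∀ x, cj S.u (cj S.t x) = cj (S.t * S.u) x := fun x => by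
    simp only [cj]; rw [htu]; group
  -- squares lie in the product of the three fixed groups
  have hsurj : ∀ x ∈ Q, ∃ a ∈ C S.t, ∃ b ∈ C S.u, ∃ c ∈ C (S.t * S.u), a * b * c = x ^ 2 := by
    intro x hx
    obtain ⟨a, ha⟩ : ∃ a, a = cj S.t x := ⟨_, rfl⟩
    obtain ⟨b, hb⟩ : ∃ b, b = cj S.u x := ⟨_, rfl⟩
    obtain ⟨c, hc'⟩ : ∃ c, c = cj (S.t * S.u) x := ⟨_, rfl⟩
    have ma : a ∈ Q := ha ▸ hnorm' _ (Or.inl rfl) x hx
    have mb : b ∈ Q := hb ▸ hnorm' _ (Or.inr (Or.inl rfl)) x hx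
    have mc : c ∈ Q := hc' ▸ hnorm' _ (Or.inr (Or.inr rfl)) x hx
    refine ⟨x * a, memC _ _ (mul_mem hx ma) ?_, x * b, memC _ _ (mul_mem hx mb) ?_,
      x * c, memC _ _ (mul_mem hx mc) ?_, ?_⟩
    · show cj S.t (x * a) = _
      rw [cjmul, ← ha, show cj S.t a = x from ha ▸ cjcj _ _ S.t_mul_t]
      exact hc _ _ ma hx
    · show cj S.u (x * b) = _
      rw [cjmul, ← hb, show cj S.u b = x from hb ▸ cjcj _ _ hu2]
      exact hc _ _ mb hx
    · show cj (S.t * S.u) (x * c) = _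
      rw [cjmul, ← hc', show cj (S.t * S.u) c = x from hc' ▸ cjcj _ _ htu2]
      exact hc _ _ mc hx
    · have hN : x * a * (b * c) = 1 := by
        refine hone _ (memC _ _ (mul_mem (mul_mem hx ma) (mul_mem mb mc)) ?_)
          (memC _ _ (mul_mem (mul_mem hx ma) (mul_mem mb mc)) ?_)
        · show cj S.t (x * a * (b * c)) = _
          have e1 : cj S.t a = x := ha ▸ cjcj _ _ S.t_mul_t
          have e2 : cj S.t b = c := by rw [hb, hc']; exact cjtu x
          have e3 : cj S.t c = b := by rw [hc', ← cjtu, cjcj _ _ S.t_mul_t, hb]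
          rw [cjmul, cjmul, cjmul, ← ha, e1, e2, e3, hc a x ma hx, hc c b mc mb]
        · show cj S.u (x * a * (b * c)) = _
          have e1 : cj S.u b = x := hb ▸ cjcj _ _ hu2
          have e2 : cj S.u a = c := by rw [ha, hc']; exact cjut x
          have e3 : cj S.u c = a := by rw [hc', ← cjut, cjcj _ _ hu2, ha]
          rw [cjmul, cjmul, cjmul, ← hb, e1, e2, e3, hc (b * c) (x * a) (mul_mem mb mc)
            (mul_mem hx ma)]
      calc x * a * (x * b) * (x * c) = x * a * x * b * (x * c) := by group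
        _ = x * (x * a) * b * (x * c) := by
            rw [show x * a * x = x * (x * a) by rw [mul_assoc, hc a x ma hx]]
        _ = x * (x * a) * (b * x) * c := by group
        _ = x * (x * a) * (x * b) * c := by rw [hc b x mb hx]
        _ = x * ((x * a) * x) * (b * c) := by group
        _ = x * (x * (x * a)) * (b * c) := by rw [hc (x * a) x (mul_mem hx ma) hx]
        _ = x ^ 2 * (x * a * (b * c)) := by rw [_root_.pow_two]; simp only [mul_assoc]
        _ = x ^ 2 := by rw [hN, mul_one]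
  have hge : 125 ≤ Nat.card (C S.t) * (Nat.card (C S.u) * Nat.card (C (S.t * S.u))) := by
    rw [← Nat.card_prod, ← Nat.card_prod, show 125 = Nat.card Q by rw [hQ]; norm_num]
    refine Nat.card_le_card_of_surjective
      (fun p : C S.t × C S.u × C (S.t * S.u) =>
        (⟨(p.1 : G) * p.2.1 * p.2.2, mul_mem (mul_mem p.1.2.1 p.2.1.2.1) p.2.2.2.1⟩ : Q)) ?_
    intro q
    obtain ⟨q', rfl⟩ := (powCoprime (G := Q) (n := 2) (by rw [hQ]; norm_num)).surjective q
    obtain ⟨a, ha, b, hb, c, hc', he⟩ := hsurj q' q'.2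
    exact ⟨(⟨a, ha⟩, ⟨b, hb⟩, ⟨c, hc'⟩), Subtype.ext he⟩
  have hle := fun s hs hs1 => Nat.le_of_dvd (by norm_num) (hC s hs hs1)
  have t5 := hle _ S.t_mul_t S.t_ne_one
  have u5 := hle _ hu2 hu1
  have v5 := hle _ htu2 htu1
  have hu5 : 1 < Nat.card (C S.u) := by
    by_contra hlt
    have := Nat.mul_le_mul t5 (Nat.mul_le_mul (Nat.le_of_not_lt hlt) v5)
    omega
  have hv5 : 1 < Nat.card (C (S.t * S.u)) := by
    by_contra hlt
    have := Nat.mul_le_mul t5 (Nat.mul_le_mul u5 (Nat.le_of_not_lt hlt))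
    omega
  obtain ⟨⟨w, hw⟩, hw1⟩ :=
    @exists_ne _ (Finite.one_lt_card_iff_nontrivial.1 hu5) (1 : C S.u)
  obtain ⟨⟨w', hw'⟩, hw'1⟩ :=
    @exists_ne _ (Finite.one_lt_card_iff_nontrivial.1 hv5) (1 : C (S.t * S.u))
  have fw : cj S.u w = w := by
    show S.u * w * S.u⁻¹ = w
    rw [← Subgroup.mem_centralizer_singleton_iff.1 hw.2, mul_inv_cancel_right]
  have fw' : cj (S.t * S.u) w' = w' := by
    show S.t * S.u * w' * (S.t * S.u)⁻¹ = w'
    rw [← Subgroup.mem_centralizer_singleton_iff.1 hw'.2, mul_inv_cancel_right]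
  -- the first involution inverts both
  have mw : cj S.t w ∈ Q := hnorm' _ (Or.inl rfl) w hw.1
  have mw' : cj S.t w' ∈ Q := hnorm' _ (Or.inl rfl) w' hw'.1
  have iw : w * cj S.t w = 1 := by
    refine hone _ (memC _ _ (mul_mem hw.1 mw) ?_) (memC _ _ (mul_mem hw.1 mw) ?_)
    · show cj S.t _ = _
      rw [cjmul, cjcj _ _ S.t_mul_t]
      exact hc _ _ mw hw.1
    · show cj S.u _ = _
      rw [cjmul, fw, cjut, ← cjtu, fw]
  have ut' : cj S.u w' = cj S.t w' := by
    calc cj S.u w' = cj S.t (cj S.t (cj S.u w')) := (cjcj _ _ S.t_mul_t).symm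
      _ = cj S.t w' := by rw [cjtu, fw']
  have iw' : w' * cj S.t w' = 1 := by
    refine hone _ (memC _ _ (mul_mem hw'.1 mw') ?_) (memC _ _ (mul_mem hw'.1 mw') ?_)
    · show cj S.t _ = _
      rw [cjmul, cjcj _ _ S.t_mul_t]
      exact hc _ _ mw' hw'.1
    · show cj S.u _ = _
      rw [cjmul, ut', cjut, fw']
      exact hc _ _ mw' hw'.1
  refine ⟨w, w', hpow _ hu2 hu1 w hw, fun e => hw1 (Subtype.ext e), hpow _ htu2 htu1 w' hw',
    fun e => hw'1 (Subtype.ext e), hc _ _ hyP hw.1, hc _ _ hyP hw'.1, hc _ _ hw.1 hw'.1,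
    eq_inv_of_mul_eq_one_right iw, eq_inv_of_mul_eq_one_right iw', fw,
    ut'.trans (eq_inv_of_mul_eq_one_right iw')⟩

/-- There is no such character. -/
theorem Deg15.elim (h : S.Deg15 χ) : False := by
  classical
  obtain ⟨w, w', hw, hw1, hw', hw1', c1, c2, c3, t1, t2, u1, u2⟩ := h.exists_lines
  let f : Multiplicative Crd →* G := MonoidHom.mk'
    (fun p => S.y ^ (Multiplicative.toAdd p).1.val * w ^ (Multiplicative.toAdd p).2.1.val *
      w' ^ (Multiplicative.toAdd p).2.2.val) fun p q => by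
      simp only [toAdd_mul, Prod.fst_add, Prod.snd_add, pow_val_add y_pow, pow_val_add hw,
        pow_val_add hw']
      generalize (Multiplicative.toAdd p).1.val = a
      generalize (Multiplicative.toAdd q).1.val = a'
      generalize (Multiplicative.toAdd p).2.1.val = b
      generalize (Multiplicative.toAdd q).2.1.val = b'
      generalize (Multiplicative.toAdd p).2.2.val = c
      generalize (Multiplicative.toAdd q).2.2.val = c'
      have d1 : Commute S.y w := c1
      have d2 : Commute S.y w' := c2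
      have d3 : Commute w w' := c3
      calc S.y ^ a * S.y ^ a' * (w ^ b * w ^ b') * (w' ^ c * w' ^ c')
          = S.y ^ a * (S.y ^ a' * w ^ b) * (w ^ b' * w' ^ c) * w' ^ c' := by group
        _ = S.y ^ a * (w ^ b * S.y ^ a') * (w' ^ c * w ^ b') * w' ^ c' := by
            rw [(d1.pow_pow a' b).eq, (d3.pow_pow b' c).eq]
        _ = S.y ^ a * w ^ b * (S.y ^ a' * w' ^ c) * w ^ b' * w' ^ c' := by group
        _ = S.y ^ a * w ^ b * (w' ^ c * S.y ^ a') * w ^ b' * w' ^ c' := by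
            rw [(d2.pow_pow a' c).eq]
        _ = _ := by group
  let T : Crd → ℂ := fun p => (χ : G → ℂ) (f (Multiplicative.ofAdd p))
  have hu2 : S.u * S.u = 1 := by rw [u, ← map_mul, mU_facts.1, map_one]
  have hu1 : S.u ≠ 1 := fun e => mU_facts.2.1 (S.inj (e.trans (map_one _).symm))
  have htu2 : (S.t * S.u) * (S.t * S.u) = 1 := by
    rw [u, ← S.phi_T, ← map_mul, ← map_mul, mU_facts.2.2.2.1, map_one]
  have htu1 : S.t * S.u ≠ 1 := fun e => mU_facts.2.2.1 (S.inj (by
    rw [map_mul, S.phi_T, map_one]; exact e))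
  have hT0 : T 0 = 15 := by
    show (χ : G → ℂ) (f (Multiplicative.ofAdd 0)) = 15
    rw [ofAdd_zero, map_one, deg_eq, h.hdeg]; norm_num
  have hline : ∀ (x s : G), s * s = 1 → s ≠ 1 → x ^ 5 = 1 → x ≠ 1 → x * s = s * x →
      ∀ k : ZMod 5, k ≠ 0 → (χ : G → ℂ) (x ^ k.val) = 5 := by
    intro x s hs hs1 hx hx1 hc k hk
    exact (h.pow_const hx (k : Fin 5) hk).trans (h.val_five hs hs1 hx hx1 hc)
  have l1 : ∀ k : ZMod 5, T (k, 0, 0) = if k = 0 then 15 else 5 := by
    intro k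
    split_ifs with hk
    · subst hk; exact hT0
    · show (χ : G → ℂ) (S.y ^ k.val * w ^ (0 : ZMod 5).val * w' ^ (0 : ZMod 5).val) = 5
      rw [ZMod.val_zero, pow_zero, pow_zero, mul_one, mul_one]
      exact hline _ _ S.t_mul_t S.t_ne_one y_pow y_ne_one (S.comm_t mY) k hk
  have l2 : ∀ k : ZMod 5, T (0, k, 0) = if k = 0 then 15 else 5 := by
    intro k
    split_ifs with hk
    · subst hk; exact hT0
    · show (χ : G → ℂ) (S.y ^ (0 : ZMod 5).val * w ^ k.val * w' ^ (0 : ZMod 5).val) = 5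
      rw [ZMod.val_zero, pow_zero, pow_zero, one_mul, mul_one]
      exact hline _ _ hu2 hu1 hw hw1 (mul_inv_eq_iff_eq_mul.1 u1).symm k hk
  have l3 : ∀ k : ZMod 5, T (0, 0, k) = if k = 0 then 15 else 5 := by
    intro k
    split_ifs with hk
    · subst hk; exact hT0
    · show (χ : G → ℂ) (S.y ^ (0 : ZMod 5).val * w ^ (0 : ZMod 5).val * w' ^ k.val) = 5
      rw [ZMod.val_zero, pow_zero, pow_zero, one_mul, one_mul]
      refine hline _ _ htu2 htu1 hw' hw1' ?_ k hk
      have e1 : S.t * w' * S.t⁻¹ = w'⁻¹ := t2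
      have : S.t * S.u * w' * (S.t * S.u)⁻¹ = w' := by
        calc S.t * S.u * w' * (S.t * S.u)⁻¹ = S.t * (S.u * w' * S.u⁻¹) * S.t⁻¹ := by group
          _ = S.t * w'⁻¹ * S.t⁻¹ := by rw [u2]
          _ = (S.t * w' * S.t⁻¹)⁻¹ := by group
          _ = w' := by rw [e1, inv_inv]
      exact (mul_inv_eq_iff_eq_mul.1 this).symm
  -- invariance of the values
  have hneg : ∀ x : G, x ^ 5 = 1 → ∀ k : ZMod 5, x ^ (4 * k).val = (x ^ k.val)⁻¹ := by
    intro x hx k
    rw [eq_inv_iff_mul_eq_one, ← pow_val_add hx,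
      show 4 * k + k = 0 by rw [show 4 * k + k = 5 * k by ring, show (5 : ZMod 5) = 0 from rfl, zero_mul],
      ZMod.val_zero, pow_zero]
  have key : ∀ s : G, ∀ a b c : G, ∀ i j k : ℕ,
      (χ : G → ℂ) (a ^ i * b ^ j * c ^ k) =
        (χ : G → ℂ) ((s * a * s⁻¹) ^ i * (s * b * s⁻¹) ^ j * (s * c * s⁻¹) ^ k) := by
    intro s a b c i j k
    rw [conj_pow, conj_pow, conj_pow]
    exact classFunction_isConj (isClassFunction_of_isIrr χ.2) (isConj_iff.2 ⟨s, by group⟩)
  have i1 : ∀ p : Crd, T ((1, 4, 4) * p) = T p := by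
    rintro ⟨a, b, c⟩
    show (χ : G → ℂ) (S.y ^ (1 * a).val * w ^ (4 * b).val * w' ^ (4 * c).val) =
      (χ : G → ℂ) (S.y ^ a.val * w ^ b.val * w' ^ c.val)
    rw [one_mul, hneg w hw, hneg w' hw', key S.t S.y w w' a.val b.val c.val, t1, t2, inv_pow,
      inv_pow, show S.t * S.y * S.t⁻¹ = S.y from mul_inv_eq_iff_eq_mul.2 (S.comm_t mY).symm]
  have i2 : ∀ p : Crd, T ((4, 1, 4) * p) = T p := by
    rintro ⟨a, b, c⟩
    show (χ : G → ℂ) (S.y ^ (4 * a).val * w ^ (1 * b).val * w' ^ (4 * c).val) =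
      (χ : G → ℂ) (S.y ^ a.val * w ^ b.val * w' ^ c.val)
    have hy : S.u * S.y * S.u⁻¹ = S.y⁻¹ := by
      rw [u, y, ← map_inv, ← map_mul, ← map_mul, ← map_inv, mU_facts.2.2.2.2.2.1]
    rw [one_mul, hneg S.y y_pow, hneg w' hw', key S.u S.y w w' a.val b.val c.val, u1, u2, hy,
      inv_pow, inv_pow]
  have hf5 : ∀ p : Crd, f (Multiplicative.ofAdd p) ^ 5 = 1 := fun p => by
    rw [← map_pow, ← ofAdd_nsmul,
      show (5 : ℕ) • p = 0 from (by decide +kernel : ∀ p : Crd, (5 : ℕ) • p = 0) p, ofAdd_zero,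
      map_one]
  have i3 : ∀ p : Crd, T ((2, 2, 2) * p) = T p := by
    intro p
    show (χ : G → ℂ) (f (Multiplicative.ofAdd ((2, 2, 2) * p))) = (χ : G → ℂ) (f (Multiplicative.ofAdd p))
    rw [← h.pow_two (hf5 p), ← map_pow, ← ofAdd_nsmul,
      show (2 : ℕ) • p = (2, 2, 2) * p from
        (by decide +kernel : ∀ p : Crd, (2 : ℕ) • p = (2, 2, 2) * p) p]
  have hinv : ∀ d ∈ mult, ∀ p : Crd, T (d * p) = T p := by
    intro d hd
    obtain ⟨i, j, k, rfl⟩ : ∃ i j : Fin 2, ∃ k : Fin 4,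
        d = ((1, 4, 4) : Crd) ^ (i : ℕ) * ((4, 1, 4) : Crd) ^ (j : ℕ) *
          ((2, 2, 2) : Crd) ^ (k : ℕ) :=
      (by decide +kernel : ∀ d ∈ mult, ∃ i j : Fin 2, ∃ k : Fin 4,
        d = ((1, 4, 4) : Crd) ^ (i : ℕ) * ((4, 1, 4) : Crd) ^ (j : ℕ) *
          ((2, 2, 2) : Crd) ^ (k : ℕ)) d hd
    have hp : ∀ (e : Crd), (∀ p, T (e * p) = T p) → ∀ n : ℕ, ∀ p, T (e ^ n * p) = T p := by
      intro e he n
      induction n with
      | zero => intro p; rw [pow_zero, one_mul]
      | succ n ih => intro p; rw [pow_succ, mul_assoc, ih, he]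
    intro p
    rw [mul_assoc, mul_assoc, hp _ i1, hp _ i2, hp _ i3]
  -- the multiplicities
  have hu5 : ∀ k : ZMod 5, conj (eζ k) = eζ (-k) := by
    intro k
    have h1 : eζ (-k) * eζ k = 1 := by rw [← eζ_add, neg_add_cancel]; simp [eζ]
    have h2 : conj (eζ k) * eζ k = 1 := by
      rw [mul_comm, Complex.mul_conj']
      rw [show ‖eζ k‖ = 1 from Complex.norm_eq_one_of_pow_eq_one
        (by rw [eζ, ← pow_mul, mul_comm, pow_mul, ζ₅_pow_five, one_pow]) (by norm_num : 5 ≠ 0)]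
      norm_num
    exact mul_right_cancel₀ (by rw [eζ]; exact pow_ne_zero _ (isPrimitiveRoot_ζ₅.ne_zero
      (by norm_num))) (h2.trans h1.symm)
  let D : Crd → Crd → ZMod 5 := fun l p => -(l.1 * p.1) + -(l.2.1 * p.2.1) + -(l.2.2 * p.2.2)
  have hex : ∀ l : Crd, ∃ m : ℕ, ∑ p : Crd, T p * eζ (D l p) = 125 * (m : ℂ) := by
    intro l
    let γ : Multiplicative Crd →* ℂˣ := MonoidHom.mk' (fun p => ζu ^
      (l.1 * (Multiplicative.toAdd p).1 + l.2.1 * (Multiplicative.toAdd p).2.1 +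
        l.2.2 * (Multiplicative.toAdd p).2.2).val) fun p q => by
      rw [← pow_val_add ζu_pow, toAdd_mul]
      congr 2
      simp only [Prod.fst_add, Prod.snd_add]
      ring
    obtain ⟨m, hm⟩ := classInner_characters (isCharacter_comp f (isCharacter_of_isIrr χ.2))
      (isCharacter_of_isIrr (isIrr_linChar γ))
    refine ⟨m, ?_⟩
    rw [Cfsg.classInner, inv_mul_eq_iff_eq_mul₀ natCard_ne_zero, Nat.card_eq_fintype_card,
      Fintype.card_multiplicative, show Fintype.card Crd = 125 by decide +kernel,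
      ← Equiv.sum_comp Multiplicative.ofAdd] at hm
    push_cast at hm
    rw [← hm]
    refine Finset.sum_congr rfl fun p _ => ?_
    simp only [γ, MonoidHom.mk'_apply, toAdd_ofAdd, Units.val_pow_eq_pow_val, ζu_val, T]
    congr 1
    show eζ _ = conj (eζ _)
    rw [hu5]
    congr 1
    simp only [D]
    ring
  choose F hF using hex
  refine no_mult F ?_ ?_ ?_ ?_ ?_
  case refine_5 =>
    intro d hd l
    obtain ⟨d', hd'⟩ : ∃ d' : Crd, d * d' = 1 :=
      (by decide +kernel : ∀ d ∈ mult, ∃ d' : Crd, d * d' = 1) d hd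
    have hb : Function.Bijective (fun p : Crd => d * p) :=
      Finite.injective_iff_bijective.1 fun a b hab => by
        have := congrArg (fun x => d' * x) hab
        simpa only [← mul_assoc, mul_comm d' d, hd', one_mul] using this
    have e : (125 : ℂ) * (F (d * l) : ℂ) = 125 * (F l : ℂ) := by
      rw [← hF, ← hF]
      refine Fintype.sum_bijective _ hb _ _ fun p => ?_
      rw [hinv d hd]
      congr 2
      simp only [D, Prod.fst_mul, Prod.snd_mul]
      ring
    exact_mod_cast mul_left_cancel₀ (by norm_num : (125 : ℂ) ≠ 0) e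
  all_goals
    refine Nat.cast_injective (R := ℂ) (mul_left_cancel₀ (show (125 : ℂ) ≠ 0 by norm_num) ?_)
    push_cast
  -- the four sums
  all_goals
    have hgen : ∀ w₁ w₂ w₃ : ZMod 5 → ℂ,
        125 * ∑ l : Crd, w₁ l.1 * w₂ l.2.1 * w₃ l.2.2 * (F l : ℂ) =
        ∑ p : Crd, T p * ((∑ m, w₁ m * eζ (-(m * p.1))) * (∑ m, w₂ m * eζ (-(m * p.2.1))) *
          (∑ m, w₃ m * eζ (-(m * p.2.2)))) := by
      intro w₁ w₂ w₃
      calc 125 * ∑ l : Crd, w₁ l.1 * w₂ l.2.1 * w₃ l.2.2 * (F l : ℂ)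
          = ∑ l : Crd, ∑ p : Crd, T p * ((w₁ l.1 * eζ (-(l.1 * p.1))) *
              (w₂ l.2.1 * eζ (-(l.2.1 * p.2.1))) * (w₃ l.2.2 * eζ (-(l.2.2 * p.2.2)))) := by
            rw [Finset.mul_sum]
            refine Finset.sum_congr rfl fun l _ => ?_
            rw [mul_left_comm, ← hF, Finset.mul_sum]
            refine Finset.sum_congr rfl fun p _ => ?_
            simp only [D, eζ_add]
            ring
        _ = _ := by
            rw [Finset.sum_comm]
            refine Finset.sum_congr rfl fun p _ => ?_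
            rw [← Finset.mul_sum]
            congr 1
            simp only [Fintype.sum_prod_type, mul_assoc, ← Finset.mul_sum]
            simp only [← mul_assoc, ← Finset.sum_mul]
    have hW : ∀ x : ZMod 5, ∑ m, (1 : ℂ) * eζ (-(m * x)) = if x = 0 then 5 else 0 := by
      intro x
      simp only [one_mul, ← mul_neg, eζ_sum, neg_eq_zero]
    have hδ : ∀ x : ZMod 5, ∑ m, (if m = 0 then (1 : ℂ) else 0) * eζ (-(m * x)) = 1 := by
      intro x
      rw [Finset.sum_eq_single 0 (fun m _ hm => by rw [if_neg hm, zero_mul]) (by simp)]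
      simp [eζ]
  · have e := hgen (fun _ => 1) (fun _ => 1) (fun _ => 1)
    simp only [hW, hδ, Fintype.sum_prod_type] at e
    simp [Finset.sum_ite, Finset.filter_eq', Finset.filter_ne',
      show T (0, 0, 0) = 15 from hT0] at e
    refine Eq.trans (congrArg ((125 : ℂ) * ·) (Finset.sum_congr rfl
      (g := fun l => ((fun _ => 1) l.1 : ℂ) * ((fun _ => 1) l.2.1 : ℂ) * ((fun _ => 1) l.2.2 : ℂ) * (F l : ℂ))
      fun l _ => by simp)) ?_
    simp only [Fintype.sum_prod_type]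
    simp [Finset.sum_ite, Finset.filter_eq', Finset.filter_ne'] at e ⊢
    linear_combination e / 125
  · have e := hgen (fun m => if m = 0 then 1 else 0) (fun _ => 1) (fun _ => 1)
    simp only [hW, hδ, Fintype.sum_prod_type] at e
    simp [l1, Finset.sum_ite, Finset.filter_eq', Finset.filter_ne',
      show T (0, 0, 0) = 15 from hT0] at e
    refine Eq.trans (congrArg ((125 : ℂ) * ·) (Finset.sum_congr rfl
      (g := fun l => ((fun m => if m = 0 then 1 else 0) l.1 : ℂ) * ((fun _ => 1) l.2.1 : ℂ) * ((fun _ => 1) l.2.2 : ℂ) * (F l : ℂ))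
      fun l _ => by simp)) ?_
    simp only [Fintype.sum_prod_type]
    simp [Finset.sum_ite, Finset.filter_eq', Finset.filter_ne'] at e ⊢
    linear_combination e / 125
  · have e := hgen (fun _ => 1) (fun m => if m = 0 then 1 else 0) (fun _ => 1)
    simp only [hW, hδ, Fintype.sum_prod_type] at e
    simp [l2, Finset.sum_ite, Finset.filter_eq', Finset.filter_ne',
      show T (0, 0, 0) = 15 from hT0] at e
    refine Eq.trans (congrArg ((125 : ℂ) * ·) (Finset.sum_congr rfl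
      (g := fun l => ((fun _ => 1) l.1 : ℂ) * ((fun m => if m = 0 then 1 else 0) l.2.1 : ℂ) * ((fun _ => 1) l.2.2 : ℂ) * (F l : ℂ))
      fun l _ => by simp)) ?_
    simp only [Fintype.sum_prod_type]
    simp [Finset.sum_ite, Finset.filter_eq', Finset.filter_ne'] at e ⊢
    linear_combination e / 125
  · have e := hgen (fun _ => 1) (fun _ => 1) (fun m => if m = 0 then 1 else 0)
    simp only [hW, hδ, Fintype.sum_prod_type] at e
    simp [l3, Finset.sum_ite, Finset.filter_eq', Finset.filter_ne',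
      show T (0, 0, 0) = 15 from hT0] at e
    refine Eq.trans (congrArg ((125 : ℂ) * ·) (Finset.sum_congr rfl
      (g := fun l => ((fun _ => 1) l.1 : ℂ) * ((fun _ => 1) l.2.1 : ℂ) * ((fun m => if m = 0 then 1 else 0) l.2.2 : ℂ) * (F l : ℂ))
      fun l _ => by simp)) ?_
    simp only [Fintype.sum_prod_type]
    simp [Finset.sum_ite, Finset.filter_eq', Finset.filter_ne'] at e ⊢
    linear_combination e / 125

end Setting

end CfsgLib.J1Order
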