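import Cfsg.Agent.J1Order.Arith
import Cfsg.Agent.J1Order.Sylow5

/-!
# The order of Janko's first group
-/

set_option autoImplicit false
set_option linter.style.haveILetI false

namespace CfsgLib.J1Order

open Cfsg

universe u

/-- A simple group with a 2-central involution with centraliser `Z/2 × A₅` has order 175560. -/
theorem card_eq {G : Type u} [Group G] [Finite G] [IsSimpleGroup G] (S : Setting G) :
    Nat.card G = 175560 := by
  haveI := Fintype.ofFinite G
  have hpos : (0 : ℤ) < (Nat.card G : ℤ) := by exact_mod_cast Nat.card_pos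
  have hdvd : (120 : ℤ) ∣ (Nat.card G : ℤ) := by exact_mod_cast S.card_dvd
  rcases S.shape with ⟨A, B, C, D, H, h, χ, hH, hn, h1, h2, h3, hfix⟩ | ⟨A, B, C, D, h⟩
  · rcases h.card_eq hpos hdvd with e | ⟨e, e'⟩
    · exact_mod_cast e
    · exfalso
      have hd := Setting.deg_pos χ
      have hn' : S.n 0 χ = -1 ∧ Setting.deg χ = 15 := by
        rcases hn with e0 | e0 <;> rw [e0] at hH <;> refine ⟨?_, ?_⟩ <;> omega
      exact Setting.Deg15.elim
        (⟨by exact_mod_cast e, hn'.2, hn'.1, h1, h2, h3, hfix⟩ : S.Deg15 χ)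
  · exact (h.false hpos).elim

end CfsgLib.J1Order
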