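import Cfsg.Agent.J1Order.Basic
import Cfsg.Agent.Inv54.SectionSums
import Cfsg.Agent.ClassPairs.Basic
import Cfsg.Agent.GaloisConj.Basic
import Cfsg.Agent.Characters.Linear

/-!
# Character values on the section of the involution

Four integral combinations of the values, their inner products, their sums against the degrees
and against `χ(t)² / χ(1)`, and the effect of a Galois conjugation.
-/

set_option autoImplicit false
set_option linter.style.haveILetI false
set_option linter.unusedSectionVars false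

namespace CfsgLib.J1Order

open Cfsg CfsgLib.Characters
open scoped ComplexConjugate

universe u

/-- A primitive fifth root of unity. -/
noncomputable def ζ₅ : ℂ := Complex.exp (2 * Real.pi * Complex.I / (5 : ℕ))

theorem isPrimitiveRoot_ζ₅ : IsPrimitiveRoot ζ₅ 5 := Complex.isPrimitiveRoot_exp 5 (by norm_num)

theorem ζ₅_pow_five : ζ₅ ^ 5 = 1 := isPrimitiveRoot_ζ₅.pow_eq_one

theorem ζ₅_sum : 1 + ζ₅ + ζ₅ ^ 2 + ζ₅ ^ 3 + ζ₅ ^ 4 = 0 := by
  have h := isPrimitiveRoot_ζ₅.geom_sum_eq_zero (by norm_num : 1 < 5)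
  simpa [Finset.sum_range_succ] using h

/-- The first real period. -/
noncomputable def per : ℂ := ζ₅ + ζ₅ ^ 4

/-- The second real period. -/
noncomputable def per' : ℂ := ζ₅ ^ 2 + ζ₅ ^ 3

theorem per_add : per + per' = -1 := by
  unfold per per'
  linear_combination ζ₅_sum

theorem per_mul : per * per' = -1 := by
  unfold per per'
  linear_combination ζ₅_sum + (ζ₅ + ζ₅ ^ 2) * ζ₅_pow_five

/-- The linear character `k ↦ ω ^ k` of the cyclic group of order 5. -/
def rootHom (ω : ℂˣ) (h : ω ^ 5 = 1) : Multiplicative (ZMod 5) →* ℂˣ :=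
  MonoidHom.mk' (fun k => ω ^ (Multiplicative.toAdd k).val) fun a b => by
    rw [← pow_add, toAdd_mul, ZMod.val_add, ← pow_eq_pow_mod _ h]

/-- A primitive fifth root of unity as a unit. -/
noncomputable def ζu : ℂˣ := (isPrimitiveRoot_ζ₅.isUnit (by norm_num)).unit

theorem ζu_val : (ζu : ℂ) = ζ₅ := IsUnit.unit_spec _

theorem ζu_pow : ζu ^ 5 = 1 := Units.ext (by rw [Units.val_pow_eq_pow_val, ζu_val, Units.val_one,
  ζ₅_pow_five])

/-- The cyclic subgroup of order 5 of the model. -/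
def fiveHom : Multiplicative (ZMod 5) →* Mdl :=
  MonoidHom.mk' (fun k => mY ^ (Multiplicative.toAdd k).val) fun a b =>
    (by decide +kernel : ∀ a b : Multiplicative (ZMod 5),
      mY ^ (Multiplicative.toAdd (a * b)).val =
        mY ^ (Multiplicative.toAdd a).val * mY ^ (Multiplicative.toAdd b).val) a b

/-- The point stabiliser in the alternating group of degree 5. -/
def stab4 : Subgroup (alternatingGroup (Fin 5)) where
  carrier := {a | (a : Equiv.Perm (Fin 5)) 4 = 4}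
  one_mem' := rfl
  mul_mem' {a b} ha hb := show (a : Equiv.Perm (Fin 5)) ((b : Equiv.Perm (Fin 5)) 4) = 4 by
    rw [show (b : Equiv.Perm (Fin 5)) 4 = 4 from hb]; exact ha
  inv_mem' {a} ha := show (a : Equiv.Perm (Fin 5))⁻¹ 4 = 4 from Equiv.Perm.inv_eq_iff_eq.2 ha.symm

instance (a : alternatingGroup (Fin 5)) : Decidable (a ∈ stab4) :=
  inferInstanceAs (Decidable ((a : Equiv.Perm (Fin 5)) 4 = 4))

/-- The class of `t` times an element of the alternating group. -/
def cls (k : alternatingGroup (Fin 5)) : Fin 4 :=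
  if k * k = 1 then 0 else if k * k * k = 1 then 1 else if ∃ m, m * cyc5 * m⁻¹ = k then 2 else 3

theorem cls_spec : ∀ k : alternatingGroup (Fin 5),
    (∃ m : Mdl, m * (mT * (1, k)) * m⁻¹ = rep (cls k)) ∨
      ((mT * (1, k)) * (mT * (1, k)) = 1 ∧ mT * (1, k) ≠ 1 ∧ cls k = 0) := by
  decide +kernel

theorem cls_count : ∀ i, (Finset.univ.filter fun k : alternatingGroup (Fin 5) => cls k = i).card =
    (![16, 20, 12, 12] : Fin 4 → ℕ) i := by
  decide +kernel

theorem cls_count_stab : ∀ i, (Finset.univ.filter fun k : stab4 => cls k = i).card =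
    (![4, 8, 0, 0] : Fin 4 → ℕ) i := by
  decide +kernel

theorem cls_five : (∀ k : Multiplicative (ZMod 5), fiveHom k = (1, (fiveHom k).2)) ∧
    (∀ k : Multiplicative (ZMod 5), cls (fiveHom k).2 =
      (![0, 2, 3, 3, 2] : Fin 5 → Fin 4) (Multiplicative.toAdd k)) := by
  decide +kernel

theorem rep_seven : rep 0 ^ 7 = rep 0 ∧ rep 1 ^ 7 = rep 1 ∧ rep 2 ^ 7 = rep 3 ∧
    (∃ m : Mdl, m * rep 3 ^ 7 * m⁻¹ = rep 2) ∧ (∀ i, rep i ^ 30 = 1) := by
  decide +kernel

namespace Setting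

variable {G : Type u} [Group G] [Fintype G] [IsSimpleGroup G] (S : Setting G)

/-- The values on the four classes. -/
noncomputable def v (i : Fin 4) (χ : IrrCharacter G) : ℂ := (χ : G → ℂ) (S.g i)

theorem v_conj (i : Fin 4) (χ : IrrCharacter G) : conj (S.v i χ) = S.v i χ := by
  rw [v, ← character_inv (isCharacter_of_isIrr χ.2)]
  exact (classFunction_isConj (isClassFunction_of_isIrr χ.2) (S.g_inv i)).symm

theorem orderOf_t : orderOf S.t = 2 := by
  haveI : Fact (Nat.Prime 2) := ⟨Nat.prime_two⟩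
  exact orderOf_eq_prime (by rw [pow_two, S.t_mul_t]) S.t_ne_one

open Inv54.SectionSums in
/-- Integrality of twisted sums over subgroups of the model. -/
theorem sum_int {A : Type} [Group A] [Fintype A] (j : A →* Mdl) (hj : Function.Injective j)
    (cl : A → Fin 4)
    (hcl : ∀ k, (∃ m, m * (mT * j k) * m⁻¹ = rep (cl k)) ∨
      ((mT * j k) * (mT * j k) = 1 ∧ mT * j k ≠ 1 ∧ cl k = 0))
    (γ : A →* ℂˣ) (χ : IrrCharacter G) :
    ∃ e : ℤ, ∑ k, (γ k : ℂ) * S.v (cl k) χ = (Fintype.card A : ℂ) * e := by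
  classical
  let f : A →* G := S.phi.comp j
  have hf : Function.Injective f := S.inj.comp hj
  let E : A ≃* f.range := MonoidHom.ofInjective hf
  haveI := Fintype.ofFinite f.range
  have hc : ∀ l ∈ f.range, S.t * l = l * S.t := by
    rintro _ ⟨k, rfl⟩
    exact (S.comm_t (j k)).symm
  obtain ⟨d, e, -, he, -⟩ := exists_int S.orderOf_t hc (γ.comp E.symm.toMonoidHom) χ
  refine ⟨e, ?_⟩
  rw [← Nat.card_eq_fintype_card, Nat.card_congr E.toEquiv, ← he, xsum]
  refine Fintype.sum_equiv E.toEquiv _ _ fun k => ?_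
  have hval : (χ : G → ℂ) (S.t * f k) = S.v (cl k) χ := by
    refine classFunction_isConj (isClassFunction_of_isIrr χ.2) ?_
    rw [show S.t * f k = S.phi (mT * j k) by rw [map_mul, S.phi_T]; rfl]
    rcases hcl k with ⟨m, hm⟩ | ⟨h1, h2, h3⟩
    · exact isConj_iff.2 ⟨S.phi m, by rw [g, ← map_inv, ← map_mul, ← map_mul, hm]⟩
    · rw [h3, g_zero]
      exact (S.isConj_t (by rw [← map_mul, h1, map_one])
        fun h => h2 (S.inj (h.trans (map_one _).symm))).symm
  rw [MulEquiv.toEquiv_eq_coe, MulEquiv.coe_toEquiv, MonoidHom.comp_apply]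
  simp only [MulEquiv.coe_toMonoidHom, MulEquiv.symm_apply_apply]
  rw [show ((E k : f.range) : G) = f k from rfl, hval, S.v_conj]

theorem sum_cls {A : Type} [Fintype A] (cl : A → Fin 4) (F : Fin 4 → ℂ) :
    ∑ k, F (cl k) = ∑ i, ((Finset.univ.filter fun k => cl k = i).card : ℂ) * F i := by
  classical
  rw [← Finset.sum_fiberwise Finset.univ cl]
  refine Finset.sum_congr rfl fun i _ => ?_
  rw [Finset.sum_congr rfl (g := fun _ => F i) (fun k hk => by rw [(Finset.mem_filter.1 hk).2]),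
    Finset.sum_const, nsmul_eq_mul]

/-- The coefficients of the integral combinations. -/
noncomputable def P : Fin 4 → Fin 4 → ℂ :=
  ![![1 / 5, 0, 2 / 5, 2 / 5], ![2 / 15, -1 / 3, (per + 1) / 5, (per' + 1) / 5],
    ![2 / 15, -1 / 3, (per' + 1) / 5, (per + 1) / 5], ![1 / 15, 1 / 3, -1 / 5, -1 / 5]]

/-- The integral combinations, as complex numbers. -/
noncomputable def nv (j : Fin 4) (χ : IrrCharacter G) : ℂ := ∑ i, P j i * S.v i χ

theorem five_sum (ω : ℂˣ) (hω : ω ^ 5 = 1) (χ : IrrCharacter G) :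
    ∃ e : ℤ, S.v 0 χ + ((ω : ℂ) + (ω : ℂ) ^ 4) * S.v 2 χ +
      ((ω : ℂ) ^ 2 + (ω : ℂ) ^ 3) * S.v 3 χ = 5 * e := by
  obtain ⟨e, he⟩ := S.sum_int fiveHom (by decide +kernel) (fun k => cls (fiveHom k).2)
    (fun k => by
      have h := cls_spec (fiveHom k).2
      rw [← cls_five.1 k] at h
      exact h) (rootHom ω hω) χ
  refine ⟨e, ?_⟩
  rw [Fintype.card_multiplicative, ZMod.card] at he
  push_cast at he
  rw [← he, ← Equiv.sum_comp Multiplicative.ofAdd]
  simp only [cls_five.2, rootHom, MonoidHom.mk'_apply, toAdd_ofAdd, Units.val_pow_eq_pow_val]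
  show _ = ∑ i : Fin 5, (ω : ℂ) ^ (i : ℕ) * S.v ((![0, 2, 3, 3, 2] : Fin 5 → Fin 4) i) χ
  simp [Fin.sum_univ_five]
  ring

theorem four_sum (χ : IrrCharacter G) : ∃ e : ℤ, S.v 0 χ + 2 * S.v 1 χ = 3 * e := by
  obtain ⟨e, he⟩ := S.sum_int ((MonoidHom.inr _ _).comp stab4.subtype)
    (fun a b h => Subtype.ext (Prod.ext_iff.1 h).2) (fun k => cls k)
    (fun k => cls_spec k) 1 χ
  refine ⟨e, ?_⟩
  simp only [MonoidHom.one_apply, Units.val_one, one_mul] at he
  rw [sum_cls (fun k : stab4 => cls k) (fun i => S.v i χ), Fin.sum_univ_four] at he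
  simp only [cls_count_stab, (by decide +kernel : Fintype.card stab4 = 12)] at he
  simp at he
  linear_combination he / 4

theorem alt_sum (χ : IrrCharacter G) :
    ∃ e : ℤ, 4 * S.v 0 χ + 5 * S.v 1 χ + 3 * S.v 2 χ + 3 * S.v 3 χ = 15 * e := by
  obtain ⟨e, he⟩ := S.sum_int (MonoidHom.inr _ _)
    (fun a b h => (Prod.ext_iff.1 h).2) cls cls_spec 1 χ
  refine ⟨e, ?_⟩
  simp only [MonoidHom.one_apply, Units.val_one, one_mul] at he
  rw [sum_cls cls (fun i => S.v i χ), Fin.sum_univ_four] at he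
  simp only [cls_count, (by decide +kernel : Fintype.card (alternatingGroup (Fin 5)) = 60)] at he
  simp at he
  linear_combination he / 4

theorem exists_nv (j : Fin 4) (χ : IrrCharacter G) : ∃ e : ℤ, S.nv j χ = e := by
  obtain ⟨e₁, h₁⟩ := S.four_sum χ
  obtain ⟨e₂, h₂⟩ := S.alt_sum χ
  obtain ⟨f₀, k₀⟩ := S.five_sum 1 (one_pow 5) χ
  obtain ⟨f₁, k₁⟩ := S.five_sum ζu ζu_pow χ
  obtain ⟨f₂, k₂⟩ := S.five_sum (ζu ^ 2) (by rw [← pow_mul, pow_mul' ζu 2 5, ζu_pow, one_pow]) χ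
  rw [ζu_val] at k₁
  rw [Units.val_pow_eq_pow_val, ζu_val] at k₂
  simp only [Units.val_one, one_pow] at k₀
  have k₂' : S.v 0 χ + per' * S.v 2 χ + per * S.v 3 χ = 5 * f₂ := by
    rw [← k₂]
    unfold per per'
    linear_combination (-ζ₅ ^ 3 * S.v 2 χ - ζ₅ * S.v 3 χ) * ζ₅_pow_five
  have k₁' : S.v 0 χ + per * S.v 2 χ + per' * S.v 3 χ = 5 * f₁ := k₁
  fin_cases j
  · refine ⟨f₀, ?_⟩
    simp only [nv, P, Fin.sum_univ_four]
    simp
    linear_combination k₀ / 5
  · refine ⟨f₁ - (e₁ - e₂), ?_⟩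
    simp only [nv, P, Fin.sum_univ_four]
    simp
    linear_combination k₁' / 5 - (h₁ / 3 - h₂ / 15)
  · refine ⟨f₂ - (e₁ - e₂), ?_⟩
    simp only [nv, P, Fin.sum_univ_four]
    simp
    linear_combination k₂' / 5 - (h₁ / 3 - h₂ / 15)
  · refine ⟨e₁ - e₂, ?_⟩
    simp only [nv, P, Fin.sum_univ_four]
    simp
    linear_combination (h₁ / 3 - h₂ / 15)

/-- The integral combinations. -/
noncomputable def n (j : Fin 4) (χ : IrrCharacter G) : ℤ := (S.exists_nv j χ).choose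

theorem cast_n (j : Fin 4) (χ : IrrCharacter G) : (S.n j χ : ℂ) = ∑ i, P j i * S.v i χ :=
  (S.exists_nv j χ).choose_spec.symm

theorem v_zero (χ : IrrCharacter G) :
    S.v 0 χ = ((S.n 0 χ + 2 * S.n 1 χ + 2 * S.n 2 χ + 4 * S.n 3 χ : ℤ) : ℂ) := by
  push_cast
  simp only [cast_n, P, Fin.sum_univ_four]
  simp
  linear_combination (-(2 : ℂ) / 5) * (S.v 2 χ + S.v 3 χ) * per_add

/-- The degree. -/
noncomputable def deg (χ : IrrCharacter G) : ℕ := (ClassPairs.exists_irr_degree χ).choose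

theorem deg_pos (χ : IrrCharacter G) : 0 < deg χ :=
  (ClassPairs.exists_irr_degree χ).choose_spec.1

theorem deg_eq (χ : IrrCharacter G) : (χ : G → ℂ) 1 = (deg χ : ℂ) :=
  (ClassPairs.exists_irr_degree χ).choose_spec.2.1

theorem sum_v_mul (i k : Fin 4) :
    ∑ χ, S.v i χ * S.v k χ = if i = k then ((![120, 6, 10, 10] : Fin 4 → ℕ) i : ℂ) else 0 := by
  rw [Finset.sum_congr rfl fun χ _ => congrArg (S.v i χ * ·) (S.v_conj k χ).symm]
  split_ifs with h
  · subst h
    rw [show (∑ χ, S.v i χ * conj (S.v i χ)) = _ from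
      sum_irr_mul_conj_of_isConj (IsConj.refl (S.g i)), ← S.card_cent i]
    congr 1
    exact Nat.card_congr (Equiv.subtypeEquivRight fun x => Subgroup.mem_centralizer_singleton_iff)
  · exact sum_irr_mul_conj_of_not_isConj fun hc => h (S.g_not_conj hc)

theorem gram (j k : Fin 4) : ((∑ χ, S.n j χ * S.n k χ : ℤ) : ℂ) =
    ∑ i, P j i * P k i * ((![120, 6, 10, 10] : Fin 4 → ℕ) i : ℂ) := by
  push_cast
  simp only [cast_n, Finset.sum_mul_sum]
  rw [Finset.sum_comm]
  refine Finset.sum_congr rfl fun i _ => ?_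
  rw [Finset.sum_comm]
  have : ∀ i', ∑ χ, P j i * S.v i χ * (P k i' * S.v i' χ) =
      P j i * P k i' * ∑ χ, S.v i χ * S.v i' χ := fun i' => by
    rw [Finset.mul_sum]
    exact Finset.sum_congr rfl fun χ _ => by ring
  simp only [this, S.sum_v_mul]
  simp

theorem gram_values :
    (∑ χ, S.n 0 χ * S.n 0 χ) = 8 ∧ (∑ χ, S.n 1 χ * S.n 1 χ) = 4 ∧
    (∑ χ, S.n 2 χ * S.n 2 χ) = 4 ∧ (∑ χ, S.n 3 χ * S.n 3 χ) = 2 ∧
    (∑ χ, S.n 0 χ * S.n 1 χ) = 4 ∧ (∑ χ, S.n 1 χ * S.n 2 χ) = 2 ∧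
    (∑ χ, S.n 0 χ * S.n 3 χ) = 0 ∧ (∑ χ, S.n 1 χ * S.n 3 χ) = 0 := by
  have hs := per_add
  have hp := per_mul
  refine ⟨?_, ?_, ?_, ?_, ?_, ?_, ?_, ?_⟩ <;> apply Int.cast_injective (α := ℂ) <;>
    rw [S.gram] <;> simp [P, Fin.sum_univ_four]
  · ring
  · linear_combination (10 / 25 : ℂ) * ((per + per' + 1) * hs - 2 * hp)
  · linear_combination (10 / 25 : ℂ) * ((per + per' + 1) * hs - 2 * hp)
  · ring
  · linear_combination (20 / 25 : ℂ) * hs
  · linear_combination (20 / 25 : ℂ) * (hs + hp)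
  · ring
  · linear_combination (-10 / 25 : ℂ) * hs

theorem sum_deg (j : Fin 4) : ∑ χ, (deg χ : ℤ) * S.n j χ = 0 := by
  apply Int.cast_injective (α := ℂ)
  push_cast
  simp only [cast_n, Finset.mul_sum]
  rw [Finset.sum_comm]
  refine Finset.sum_eq_zero fun i _ => ?_
  have : ∑ χ : IrrCharacter G, (χ : G → ℂ) 1 * conj (S.v i χ) = 0 := sum_irr_mul_conj_of_not_isConj fun hc =>
    S.g_ne_one i (isConj_one_right.1 hc)
  simp only [S.v_conj, deg_eq] at this
  rw [Finset.sum_congr rfl (g := fun χ => P j i * ((deg χ : ℂ) * S.v i χ)) (fun χ _ => by ring),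
    ← Finset.mul_sum, this, mul_zero]

/-- Pairs of involutions with product a representative. -/
theorem sum_sq_div (i : Fin 4) :
    (Nat.card G : ℂ) * ∑ χ, S.v i χ * (S.v 0 χ ^ 2 / (deg χ : ℂ)) =
      14400 * ((![30, 6, 10, 10] : Fin 4 → ℕ) i : ℂ) := by
  classical
  set I := Finset.univ.filter fun u => IsConj S.t u with hIdef
  have hI : ∀ u, u ∈ I ↔ IsConj S.t u := fun u => by simp [hIdef]
  have hC : Nat.card (Subgroup.centralizer ({S.t} : Set G)) = 120 := by
    have h := S.card_cent 0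
    rw [g_zero] at h
    exact (Nat.card_congr (Equiv.subtypeEquivRight fun x =>
      Subgroup.mem_centralizer_singleton_iff)).trans h
  have key := ClassPairs.card_pairs S.t S.t ({S.g i} : Finset G)
  rw [Finset.sum_congr rfl fun a _ => BlocksFrobenius.Klein.sum_conj_eq S.t I hI
      (fun w => if a * S.t * a⁻¹ * w ∈ ({S.g i} : Finset G) then (1 : ℂ) else 0),
    ← Finset.smul_sum, BlocksFrobenius.Klein.sum_conj_eq S.t I hI
      (fun u => ∑ w ∈ I, if u * w ∈ ({S.g i} : Finset G) then (1 : ℂ) else 0), hC] at key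
  have hN : (∑ u ∈ I, ∑ w ∈ I, if u * w ∈ ({S.g i} : Finset G) then (1 : ℂ) else 0) =
      ((![30, 6, 10, 10] : Fin 4 → ℕ) i : ℂ) := by
    rw [← Finset.sum_product' I I fun u w => if u * w ∈ ({S.g i} : Finset G) then (1 : ℂ) else 0,
      Finset.sum_boole, ← S.card_pairs_involutions i, Nat.card_eq_fintype_card,
      Fintype.card_subtype]
    congr 1
    have hinv : ∀ u, IsConj S.t u ↔ u * u = 1 ∧ u ≠ 1 := by
      refine fun u => ⟨fun h => ?_, fun h => S.isConj_t h.1 h.2⟩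
      obtain ⟨a, rfl⟩ := isConj_iff.1 h
      refine ⟨?_, fun h1 => S.t_ne_one (conj_eq_one_iff.1 h1)⟩
      rw [conj_mul, S.t_mul_t, mul_one, mul_inv_cancel]
    refine Finset.card_bij (fun p _ => p.1) ?_ ?_ ?_
    · rintro ⟨u, w⟩ hp
      simp only [Finset.mem_filter, Finset.mem_product, hI, hinv, Finset.mem_singleton] at hp
      obtain ⟨⟨⟨hu, hu1⟩, hw, hw1⟩, he⟩ := hp
      have hwe : w = u * S.g i := by rw [← he, ← mul_assoc, hu, one_mul]
      simp only [Finset.mem_filter, Finset.mem_univ, true_and]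
      refine ⟨hu, hu1, fun hug => hw1 ?_, hwe ▸ hw⟩
      rw [hwe, ← hug, hu]
    · rintro ⟨u, w⟩ hp ⟨u', w'⟩ hp' (rfl : u = u')
      simp only [Finset.mem_filter, Finset.mem_singleton] at hp hp'
      rw [mul_left_cancel (hp.2.trans hp'.2.symm)]
    · intro u hu
      simp only [Finset.mem_filter, Finset.mem_univ, true_and] at hu
      obtain ⟨hu, hu1, hug, hu2⟩ := hu
      refine ⟨(u, u * S.g i), ?_, rfl⟩
      simp only [Finset.mem_filter, Finset.mem_product, hI, hinv, Finset.mem_singleton]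
      refine ⟨⟨⟨hu, hu1⟩, hu2, fun h => hug ?_⟩, by rw [← mul_assoc, hu, one_mul]⟩
      exact (inv_eq_of_mul_eq_one_right hu).symm.trans (inv_eq_of_mul_eq_one_right h)
  rw [hN] at key
  simp only [Finset.sum_singleton, smul_smul, nsmul_eq_mul] at key
  push_cast at key
  rw [show (14400 : ℂ) = 120 * 120 by norm_num, mul_assoc (120 : ℂ), key]
  congr 1
  refine Finset.sum_congr rfl fun χ _ => ?_
  rw [show conj ((χ : G → ℂ) (S.g i)) = S.v i χ from S.v_conj i χ, deg_eq, v, v, g_zero, pow_two]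

theorem sum_n_sq_div :
    (∑ χ, (S.n 0 χ : ℚ) * (S.n 0 χ + 2 * S.n 1 χ + 2 * S.n 2 χ + 4 * S.n 3 χ : ℤ) ^ 2 / deg χ)
        * Nat.card G = 14400 * 14 ∧
    (∑ χ, (S.n 1 χ : ℚ) * (S.n 0 χ + 2 * S.n 1 χ + 2 * S.n 2 χ + 4 * S.n 3 χ : ℤ) ^ 2 / deg χ)
        * Nat.card G = 14400 * 4 ∧
    (∑ χ, (S.n 3 χ : ℚ) * (S.n 0 χ + 2 * S.n 1 χ + 2 * S.n 2 χ + 4 * S.n 3 χ : ℤ) ^ 2 / deg χ)
        * Nat.card G = 0 := by
  have key : ∀ j, ((((∑ χ, (S.n j χ : ℚ) *
      (S.n 0 χ + 2 * S.n 1 χ + 2 * S.n 2 χ + 4 * S.n 3 χ : ℤ) ^ 2 / deg χ) * Nat.card G) : ℚ) : ℂ) =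
      14400 * ∑ i, P j i * ((![30, 6, 10, 10] : Fin 4 → ℕ) i : ℂ) := by
    intro j
    simp only [Rat.cast_mul, Rat.cast_sum, Rat.cast_div, Rat.cast_intCast, Rat.cast_natCast,
      Rat.cast_pow, ← S.v_zero]
    simp only [cast_n, Finset.sum_mul, Finset.mul_sum, Finset.sum_div]
    rw [Finset.sum_comm]
    refine Finset.sum_congr rfl fun i _ => ?_
    rw [← mul_left_comm, ← S.sum_sq_div i, ← mul_assoc, Finset.mul_sum]
    exact Finset.sum_congr rfl fun χ _ => by ring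
  refine ⟨?_, ?_, ?_⟩ <;> apply Rat.cast_injective (α := ℂ) <;> rw [key] <;>
    simp [P, Fin.sum_univ_four]
  · ring
  · linear_combination (2 : ℂ) * per_add
  · ring

include S in
theorem card_dvd : 120 ∣ Nat.card G := by
  have h := Subgroup.card_subgroup_dvd_card S.phi.range
  rwa [Nat.card_congr (MonoidHom.ofInjective S.inj).symm.toEquiv, Nat.card_eq_fintype_card,
    card_mdl] at h

include S in
theorem exists_kk : ∃ k : ℕ, k.Coprime (Nat.card G) ∧ k % 30 = 7 := by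
  obtain ⟨e, m, hm, he⟩ := Nat.exists_eq_pow_mul_and_not_dvd
    (Nat.card_pos (α := G)).ne' 5 (by norm_num)
  have hd := card_dvd S
  have he0 : e ≠ 0 := fun h0 => hm ((by norm_num : (5 : ℕ) ∣ 120).trans
    (by rw [he, h0, pow_zero, one_mul] at hd; exact hd))
  have hco : Nat.Coprime m (5 ^ e) :=
    (((Nat.Prime.coprime_iff_not_dvd (by norm_num)).2 hm).pow_left e).symm
  obtain ⟨k, hk1, hk2⟩ := Nat.chineseRemainder hco 1 2
  have h6 : 6 ∣ m := by
    refine Nat.Coprime.dvd_of_dvd_mul_left (Nat.Coprime.pow_right e (by norm_num : Nat.Coprime 6 5)) ?_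
    exact ((by norm_num : (6 : ℕ) ∣ 120).trans hd).trans (by rw [he])
  have k6 : k % 6 = 1 := hk1.of_dvd h6
  have k5 : k % 5 = 2 := hk2.of_dvd (dvd_pow_self 5 he0)
  refine ⟨k, ?_, by omega⟩
  rw [he]
  refine Nat.Coprime.mul_right (Nat.Coprime.pow_right e ?_) ?_
  · exact (Nat.Prime.coprime_iff_not_dvd (by norm_num)).2 (fun h => by omega) |>.symm
  · exact (Nat.ModEq.gcd_eq hk1).trans (Nat.gcd_one_left m)

/-- The exponent of the conjugation. -/
noncomputable def kk : ℕ := S.exists_kk.choose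

theorem kk_coprime : S.kk.Coprime (Nat.card G) := S.exists_kk.choose_spec.1

/-- The Galois conjugation. -/
noncomputable def conjChar (χ : IrrCharacter G) : IrrCharacter G :=
  ⟨fun x => (χ : G → ℂ) (x ^ S.kk), GaloisConj.isIrrCharacter_pow χ.2 S.kk_coprime⟩

theorem conjChar_injective : Function.Injective S.conjChar := by
  intro χ ψ h
  refine Subtype.ext (funext fun x => ?_)
  obtain ⟨y, rfl⟩ := (powCoprime S.kk_coprime.symm).surjective x
  exact congrFun (congrArg Subtype.val h) y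

theorem v_conjChar (χ : IrrCharacter G) :
    S.v 0 (S.conjChar χ) = S.v 0 χ ∧ S.v 1 (S.conjChar χ) = S.v 1 χ ∧
      S.v 2 (S.conjChar χ) = S.v 3 χ ∧ S.v 3 (S.conjChar χ) = S.v 2 χ := by
  have hg : ∀ i, S.g i ^ S.kk = S.phi (rep i ^ 7) := fun i => by
    rw [g, ← map_pow, pow_eq_pow_mod S.kk (rep_seven.2.2.2.2 i),
      show S.kk % 30 = 7 from S.exists_kk.choose_spec.2]
  refine ⟨?_, ?_, ?_, ?_⟩
  · show (χ : G → ℂ) (S.g 0 ^ S.kk) = _
    rw [hg, rep_seven.1]; rfl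
  · show (χ : G → ℂ) (S.g 1 ^ S.kk) = _
    rw [hg, rep_seven.2.1]; rfl
  · show (χ : G → ℂ) (S.g 2 ^ S.kk) = _
    rw [hg, rep_seven.2.2.1]; rfl
  · show (χ : G → ℂ) (S.g 3 ^ S.kk) = _
    obtain ⟨m, hm⟩ := rep_seven.2.2.2.1
    rw [hg]
    exact classFunction_isConj (isClassFunction_of_isIrr χ.2)
      (isConj_iff.2 ⟨S.phi m, by rw [g, ← map_inv, ← map_mul, ← map_mul, hm]⟩)

theorem n_conjChar (χ : IrrCharacter G) :
    S.n 0 (S.conjChar χ) = S.n 0 χ ∧ S.n 1 (S.conjChar χ) = S.n 2 χ ∧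
      S.n 2 (S.conjChar χ) = S.n 1 χ ∧ S.n 3 (S.conjChar χ) = S.n 3 χ := by
  obtain ⟨h0, h1, h2, h3⟩ := S.v_conjChar χ
  refine ⟨?_, ?_, ?_, ?_⟩ <;> apply Int.cast_injective (α := ℂ) <;>
    simp [cast_n, P, Fin.sum_univ_four, h0, h1, h2, h3] <;> ring

theorem deg_conjChar (χ : IrrCharacter G) : deg (S.conjChar χ) = deg χ := by
  have h : ((S.conjChar χ : IrrCharacter G) : G → ℂ) 1 = (χ : G → ℂ) 1 := by
    show (χ : G → ℂ) (1 ^ S.kk) = _
    rw [one_pow]
  rw [deg_eq, deg_eq] at h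
  exact_mod_cast h

theorem v_trivial (χ : IrrCharacter G) (h : (χ : G → ℂ) = fun _ => 1) :
    S.n 0 χ = 1 ∧ S.n 1 χ = 0 ∧ S.n 2 χ = 0 ∧ S.n 3 χ = 0 := by
  refine ⟨?_, ?_, ?_, ?_⟩ <;> apply Int.cast_injective (α := ℂ) <;>
    simp [cast_n, P, Fin.sum_univ_four, v, h]
  · norm_num
  · linear_combination per_add / 5
  · linear_combination per_add / 5
  · norm_num

/-- A character with `χ(t) = χ(1)` is trivial. -/
theorem eq_one_of_eq_deg (χ : IrrCharacter G) (h : S.v 0 χ = deg χ) :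
    (χ : G → ℂ) = fun _ => 1 := by
  obtain ⟨d, ρ, hρ, hχ⟩ := χ.2
  have hd : (χ : G → ℂ) 1 = (d : ℂ) := by
    rw [← hχ, Representation.char_one, Module.finrank_fin_fun]
  have hker : ρ S.t = LinearMap.id := by
    refine (char_eq_finrank_iff ρ S.t).1 ?_
    rw [Module.finrank_fin_fun, hχ, ← g_zero]
    exact h.trans ((deg_eq χ).symm.trans hd)
  have htop : ρ.ker = ⊤ :=
    (IsSimpleGroup.eq_bot_or_eq_top_of_normal ρ.ker inferInstance).resolve_left fun hb =>
      S.t_ne_one ((Subgroup.eq_bot_iff_forall _).1 hb S.t (MonoidHom.mem_ker.2 hker))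
  have hall : ∀ x, (χ : G → ℂ) x = (χ : G → ℂ) 1 := fun x => by
    have hx : ρ x = 1 := MonoidHom.mem_ker.1 (htop ▸ Subgroup.mem_top x)
    rw [← hχ, Representation.character, Representation.character, hx, map_one ρ]
  have h0 : (χ : G → ℂ) 1 ≠ 0 := irr_one_ne_zero χ.2
  by_contra hne
  have hz := classInner_isIrr_ne χ.2 isIrr_one hne
  rw [Cfsg.classInner] at hz
  simp only [hall, map_one, mul_one, Finset.sum_const, Finset.card_univ, nsmul_eq_mul,
    ← Nat.card_eq_fintype_card, inv_mul_cancel_left₀ natCard_ne_zero] at hz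
  exact h0 hz

/-- The restriction to a Sylow 2-subgroup. -/
theorem exists_eight (χ : IrrCharacter G) :
    ∃ m : ℕ, (deg χ : ℤ) + 7 * (S.n 0 χ + 2 * S.n 1 χ + 2 * S.n 2 χ + 4 * S.n 3 χ) = 8 * m := by
  classical
  let f : mP →* G := S.phi.comp mP.subtype
  obtain ⟨m, hm⟩ := classInner_characters (isCharacter_comp f (isCharacter_of_isIrr χ.2))
    (isCharacter_of_isIrr (isIrr_one (G := mP)))
  refine ⟨m, Int.cast_injective (α := ℂ) ?_⟩
  rw [Cfsg.classInner, inv_mul_eq_iff_eq_mul₀ natCard_ne_zero] at hm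
  simp only [map_one, mul_one] at hm
  have hval : ∀ k : mP, k ≠ 1 → (χ : G → ℂ) (f k) = S.v 0 χ := fun k hk =>
    (classFunction_isConj (isClassFunction_of_isIrr χ.2) (g_zero S ▸ S.isConj_t
      (by rw [← map_mul, show k * k = 1 from Subtype.ext (sq_mP k k.2), map_one])
      (fun h => hk (S.inj.comp Subtype.val_injective (h.trans (map_one f).symm))))).symm
  rw [← Finset.add_sum_erase _ _ (Finset.mem_univ (1 : mP)),
    Finset.sum_congr rfl (g := fun _ => S.v 0 χ) (fun k hk => hval k (Finset.mem_erase.1 hk).1),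
    map_one, deg_eq, Finset.sum_const, Finset.card_erase_of_mem (Finset.mem_univ _),
    Finset.card_univ, Nat.card_eq_fintype_card,
    (by decide +kernel : Fintype.card mP = 8)] at hm
  rw [S.v_zero] at hm
  push_cast at hm ⊢
  simp [nsmul_eq_mul] at hm
  linear_combination hm

end Setting

end CfsgLib.J1Order
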